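import Mathlib
import Cfsg.Agent.S0144
import Cfsg.Agent.Core.PCore
import Cfsg.Agent.SylowFifteen.Small

/-!
# Groups without solvable normal subgroups: basic facts
-/

set_option autoImplicit false

namespace Cfsg.Agent.SubA8

open Equiv

/-- No non-trivial solvable normal subgroup. -/
def RadFree (G : Type*) [Group G] : Prop :=
  ∀ M : Subgroup G, M.Normal → Group.IsSolvable M → M = ⊥

theorem RadFree.of_equiv {G G' : Type*} [Group G] [Group G'] (h : RadFree G) (e : G ≃* G') :
    RadFree G' := by
  intro M hM hs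
  have h1 := h (M.comap e.toMonoidHom) inferInstance
    (Group.isSolvable_of_isSolvable_injective (f := (e.toMonoidHom.subgroupComap M))
      (fun a b hab => Subtype.ext (e.injective (congrArg Subtype.val hab))))
  rw [eq_bot_iff]
  intro x hx
  obtain ⟨y, rfl⟩ := e.surjective x
  have : y ∈ M.comap e.toMonoidHom := hx
  rw [h1, Subgroup.mem_bot] at this
  simp [this]

theorem radFree_of_cores {G : Type*} [Group G] [Finite G] (h2 : Cfsg.pCore 2 G = ⊥)
    (hO : Cfsg.pPrimeCore 2 G = ⊥) : RadFree G := by
  intro M hM hs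
  by_contra hne
  obtain ⟨n, hn⟩ := hs.solvable
  have hex : ∃ k, derivedSeries M k = ⊥ := ⟨n, hn⟩
  classical
  obtain ⟨k, hk, hkne⟩ : ∃ k, derivedSeries M (k + 1) = ⊥ ∧ derivedSeries M k ≠ ⊥ := by
    have hk := Nat.find_spec hex
    rcases h0 : Nat.find hex with _ | k
    · rw [h0, derivedSeries_zero] at hk
      exact absurd ((Subgroup.eq_bot_iff_forall _).mpr fun x hx => by
        have := (Subgroup.eq_bot_iff_forall _).mp hk ⟨x, hx⟩ trivial
        exact congrArg Subtype.val this) hne
    · exact ⟨k, h0 ▸ hk, fun h => Nat.find_min hex (by omega : k < Nat.find hex) h⟩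
  set A := (derivedSeries M k).map M.subtype
  have hAn : A.Normal := by
    have := derivedSeries_normal M k
    have : (derivedSeries M k).Characteristic := inferInstance
    exact inferInstance
  have hAc : IsMulCommutative A := by
    refine ⟨⟨fun a b => ?_⟩⟩
    obtain ⟨a', ha', ha⟩ := Subgroup.mem_map.mp a.2
    obtain ⟨b', hb', hb⟩ := Subgroup.mem_map.mp b.2
    rw [derivedSeries_succ, Subgroup.commutator_eq_bot_iff_le_centralizer] at hk
    have := Subgroup.mem_centralizer_iff.mp (hk ha') b' hb'
    apply Subtype.ext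
    show (a : G) * b = b * a
    rw [← ha, ← hb]
    simpa using (congrArg Subtype.val this).symm
  have hAne : A ≠ ⊥ := by
    rw [Ne, Subgroup.map_eq_bot_iff_of_injective _ M.subtype_injective]
    exact hkne
  obtain ⟨p, hp, hpd⟩ := Nat.exists_prime_and_dvd (n := Nat.card A)
    (fun h => hAne (Subgroup.card_eq_one.mp h))
  have : Fact p.Prime := ⟨hp⟩
  obtain ⟨P⟩ := (inferInstance : Nonempty (Sylow p A))
  have hPn : ((P : Subgroup A)).Normal := ⟨fun x hx g => by
    rw [mul_comm' g x, mul_inv_cancel_right]; exact hx⟩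
  have hPc : (P : Subgroup A).Characteristic := P.characteristic_of_normal hPn
  set Q := (P : Subgroup A).map A.subtype
  have hQn : Q.Normal := inferInstance
  have hQp : IsPGroup p Q := P.2.map _
  have hQne : Q ≠ ⊥ := by
    rw [Ne, Subgroup.map_eq_bot_iff_of_injective _ A.subtype_injective]
    exact P.ne_bot_of_dvd_card hpd
  rcases eq_or_ne p 2 with rfl | hp2
  · exact hQne (le_bot_iff.mp (h2 ▸ Cfsg.Agent.Core.le_pCore hQp))
  · refine hQne (le_bot_iff.mp (hO ▸ Cfsg.Agent.Core.le_pPrimeCore ?_))
    obtain ⟨m, hm⟩ := IsPGroup.iff_card.mp hQp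
    rw [hm]
    exact Nat.Coprime.pow_left _ ((Nat.coprime_primes hp Nat.prime_two).mpr hp2)

theorem RadFree.not_solvable {G : Type*} [Group G] [Nontrivial G] (h : RadFree G) :
    ¬ Group.IsSolvable G := fun hs => by
  have := h ⊤ inferInstance inferInstance
  exact top_ne_bot this

theorem solvable_two_primes {G : Type*} [Group G] [Finite G] (p q : ℕ) (hp : p.Prime) (hq : q.Prime)
    {a b : ℕ} (hd : Nat.card G ∣ p ^ a * q ^ b) : Group.IsSolvable G := by
  rcases eq_or_ne p q with rfl | hpq
  · rw [← pow_add] at hd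
    obtain ⟨i, -, hi⟩ := (Nat.dvd_prime_pow hp).mp hd
    exact Cfsg.Agent.S0144.result p p i 0 hp hp (by simpa using hi)
  · obtain ⟨x, y, hx, hy, hxy⟩ := exists_dvd_and_dvd_of_dvd_mul hd
    obtain ⟨i, -, rfl⟩ := (Nat.dvd_prime_pow hp).mp hx
    obtain ⟨j, -, rfl⟩ := (Nat.dvd_prime_pow hq).mp hy
    exact Cfsg.Agent.S0144.result p q i j hp hq hxy

/-- A subgroup of `Perm` on at most four points is solvable. -/
theorem solvable_small {α : Type*} [Finite α] {G : Type*} [Group G] [Finite G] (hα : Nat.card α ≤ 4)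
    (f : G →* Perm α) (hf : Function.Injective f) : Group.IsSolvable G := by
  refine solvable_two_primes 2 3 Nat.prime_two Nat.prime_three (a := 3) (b := 1) ?_
  refine (Subgroup.card_dvd_of_injective f hf).trans ?_
  rw [Nat.card_perm]
  exact (Nat.factorial_dvd_factorial hα).trans (by decide)

/-- The order of the normaliser of a self-centralising Sylow `7` without complement. -/
theorem card_normalizer_ne {G : Type*} [Group G] [Finite G] (h : RadFree G) {p : ℕ} [Fact p.Prime]
    (P : Sylow p G) (hP : Nat.card P = p) (hM : ∀ M : Subgroup G, M.Normal →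
      ¬ p ∣ Nat.card M → Group.IsSolvable M) (hne : Nat.card G ≠ p) :
    Nat.card (Subgroup.normalizer ((P : Subgroup G) : Set G)) ≠ p := by
  intro hN
  have hNP : Subgroup.normalizer ((P : Subgroup G) : Set G) = P :=
    (Subgroup.eq_of_le_of_card_ge Subgroup.le_normalizer (by rw [hN]; exact hP.ge)).symm
  have hc : IsCyclic (P : Subgroup G) := isCyclic_of_prime_card hP
  obtain ⟨S, N, hNn, hcomp⟩ := Cfsg.Agent.SylowFifteen.hasNormalPComplement_of_burnside P (by
    intro x hx0
    have hx : x ∈ (P : Subgroup G) := hNP ▸ hx0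
    rw [Subgroup.mem_centralizer_iff]
    intro y hy
    exact congrArg Subtype.val (mul_comm' (⟨y, hy⟩ : (P : Subgroup G)) ⟨x, hx⟩))
  have hSc : Nat.card S = p := (Nat.card_congr (S.equiv P).toEquiv).trans hP
  have hcard := hcomp.card_mul
  have hnd : ¬ p ∣ Nat.card N := by
    intro hd
    have h1 := P.card_eq_multiplicity
    rw [hP] at h1
    have h2 : p * p ∣ Nat.card G := by rw [← hcard]; exact mul_dvd_mul hd (dvd_of_eq hSc.symm)
    have h3 := ((Fact.out : p.Prime).pow_dvd_iff_le_factorization Nat.card_pos.ne').mp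
      (by rwa [sq] : p ^ 2 ∣ Nat.card G)
    have h4 := Nat.pow_right_injective (Fact.out : p.Prime).two_le
      (show p ^ 1 = p ^ (Nat.card G).factorization p by rwa [pow_one])
    omega
  have hN1 := h N hNn (hM N hNn hnd)
  rw [hN1, Subgroup.card_bot, one_mul] at hcard
  exact hne (hcard.symm.trans hSc)

end Cfsg.Agent.SubA8
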