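import Mathlib
import Cfsg.Agent.SubA8.Basic
import Cfsg.Agent.S3378
import Cfsg.Agent.Classical.SmallPSL

/-!
# Subgroups of small symmetric groups without solvable normal subgroups
-/

set_option autoImplicit false

namespace Cfsg.Agent.SubA8

open Equiv

theorem small_not_solvable {G : Type*} [Group G] [Finite G] (hns : ¬ Group.IsSolvable G)
    (h : Nat.card G ∣ 360) : 60 ≤ Nat.card G := by
  by_contra hlt
  have key : ∀ n : Fin 60, n.val ∣ 360 → n.val ∣ 120 ∨ n.val ∣ 2 ^ 3 * 3 ^ 2 ∨ n.val ∣ 3 ^ 2 * 5 ^ 1 := by
    decide +kernel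
  rcases key ⟨_, not_le.mp hlt⟩ h with e | e | e
  · exact hns (Cfsg.Agent.S3378.small_solvable e (not_le.mp hlt))
  · exact hns (solvable_two_primes 2 3 Nat.prime_two Nat.prime_three e)
  · exact hns (solvable_two_primes 3 5 Nat.prime_three Nat.prime_five e)

theorem alt_card {n k : ℕ} (hn : 2 ≤ n) (h : n.factorial = 2 * k) :
    Nat.card (alternatingGroup (Fin n)) = k := by
  have : Nontrivial (Fin n) := Fin.nontrivial_iff_two_le.2 hn
  have h2 := two_mul_nat_card_alternatingGroup (α := Fin n)
  rw [Nat.card_perm, Nat.card_fin, h] at h2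
  omega

/-- A proper subgroup of a simple alternating group has index `m` with `|A_n| ≤ m!/2`. -/
theorem simple_index {n : ℕ} (hn : 5 ≤ n) (H : Subgroup (alternatingGroup (Fin n))) (hH : H ≠ ⊤) :
    Nat.card (alternatingGroup (Fin n)) ∣ H.index.factorial ∧
      2 * Nat.card (alternatingGroup (Fin n)) ≤ H.index.factorial := by
  classical
  have : IsSimpleGroup (alternatingGroup (Fin n)) := alternatingGroup.isSimpleGroup (by simp; omega)
  have : Fintype (alternatingGroup (Fin n) ⧸ H) := Fintype.ofFinite _
  let f := MulAction.toPermHom (alternatingGroup (Fin n)) (alternatingGroup (Fin n) ⧸ H)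
  have hne : f ≠ 1 := by
    intro h1
    obtain ⟨g, hg⟩ : ∃ g, g ∉ H := by
      by_contra hc
      push Not at hc
      exact hH (Subgroup.eq_top_iff' H |>.mpr hc)
    have := congrArg (fun σ : Perm _ => σ ((1 : alternatingGroup (Fin n)) : _ ⧸ H)) (DFunLike.congr_fun h1 g)
    simp only [f, MulAction.toPermHom_apply, MonoidHom.one_apply, Perm.coe_one, id_eq,
      MulAction.toPerm_apply, MulAction.Quotient.smul_coe, smul_eq_mul, mul_one] at this
    exact hg (by simpa using QuotientGroup.eq.mp this.symm)
  obtain ⟨hinj, hle⟩ := Cfsg.Agent.Classical.Small.perm_rep (Cfsg.Agent.Classical.Small.alt_noncomm hn) f hne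
  constructor
  · have := Subgroup.card_dvd_of_injective f hinj
    rwa [Nat.card_perm, ← Subgroup.index_eq_card] at this
  · have h1 : Nat.card f.range ≤ Nat.card (alternatingGroup (alternatingGroup (Fin n) ⧸ H)) :=
      Nat.card_le_card_of_injective _ (Subgroup.inclusion_injective hle)
    rw [← Nat.card_congr (MonoidHom.ofInjective hinj).toEquiv] at h1
    have h2 : Nontrivial (alternatingGroup (Fin n) ⧸ H) := by
      rw [← Finite.one_lt_card_iff_nontrivial, ← Subgroup.index_eq_card]
      exact Subgroup.one_lt_index_of_ne_top hH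
    have h3 := two_mul_nat_card_alternatingGroup (α := alternatingGroup (Fin n) ⧸ H)
    rw [Nat.card_perm, ← Subgroup.index_eq_card] at h3
    omega

theorem perm_degree5 (H : Subgroup (Perm (Fin 5))) (hns : ¬ Group.IsSolvable H) :
    Nonempty (H ≃* alternatingGroup (Fin 5)) ∨ Nonempty (H ≃* Perm (Fin 5)) := by
  have hd : Nat.card H ∣ 120 := by
    have := H.card_subgroup_dvd_card
    rwa [Nat.card_perm, Nat.card_fin] at this
  have h60 : 60 ≤ Nat.card H := by
    by_contra h
    exact hns (Cfsg.Agent.S3378.small_solvable hd (not_le.mp h))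
  have hmul := H.card_mul_index
  rw [Nat.card_perm, Nat.card_fin, show Nat.factorial 5 = 120 from rfl] at hmul
  have : H.index = 1 ∨ H.index = 2 := by
    have h0 : H.index ≠ 0 := Subgroup.index_ne_zero_of_finite
    have : H.index ≤ 2 := by nlinarith
    omega
  rcases this with h | h
  · rw [Subgroup.index_eq_one] at h
    exact Or.inr ⟨(MulEquiv.subgroupCongr h).trans Subgroup.topEquiv⟩
  · exact Or.inl ⟨MulEquiv.subgroupCongr (Equiv.Perm.eq_alternatingGroup_of_index_eq_two h)⟩

theorem perm_degree6 (H : Subgroup (Perm (Fin 6))) (hrf : RadFree H) (hne : H ≠ ⊥) :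
    (∃ n : ℕ, 5 ≤ n ∧ n ≤ 8 ∧ Nonempty (H ≃* alternatingGroup (Fin n))) ∨
      Nonempty (H ≃* Perm (Fin 5)) ∨ Nonempty (H ≃* Perm (Fin 6)) := by
  classical
  have : Nontrivial H := (Subgroup.nontrivial_iff_ne_bot H).mpr hne
  set A := alternatingGroup (Fin 6)
  have hA : Nat.card A = 360 := alt_card (by norm_num) rfl
  set M : Subgroup A := H.subgroupOf A
  -- `M` is not solvable
  let eM : M ≃* A.subgroupOf H :=
    { toFun := fun x => ⟨⟨x.1.1, x.2⟩, x.1.2⟩
      invFun := fun x => ⟨⟨x.1.1, x.2⟩, x.1.2⟩
      left_inv := fun _ => rfl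
      right_inv := fun _ => rfl
      map_mul' := fun _ _ => rfl }
  have hnsM : ¬ Group.IsSolvable M := by
    intro hs
    have hs' : Group.IsSolvable (A.subgroupOf H) :=
      Group.isSolvable_of_isSolvable_injective (f := eM.symm.toMonoidHom) eM.symm.injective
    have hb := hrf (A.subgroupOf H) inferInstance hs'
    have hinj : Function.Injective ((Perm.sign).comp H.subtype) := by
      rw [← MonoidHom.ker_eq_bot_iff, ← hb]
      ext x
      simp [A, Subgroup.mem_subgroupOf, Perm.mem_alternatingGroup]
    exact hrf.not_solvable (Group.isSolvable_of_isSolvable_injective (f := (Perm.sign).comp H.subtype) hinj)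
  have hdM : Nat.card M ∣ 360 := hA ▸ M.card_subgroup_dvd_card
  have h60 := small_not_solvable hnsM hdM
  have hmul := M.card_mul_index
  rw [hA] at hmul
  have hidx6 : M.index ≤ 6 := by nlinarith
  have h2 : 2 ≤ 6 := by norm_num
  have hH2 : Nat.card H = Nat.card (A.subgroupOf H) * A.relIndex H := ((A.subgroupOf H).card_mul_index).symm
  have hrel : A.relIndex H ∣ 2 := by
    have h := Subgroup.relIndex_dvd_index_of_normal A H
    rwa [alternatingGroup.index_eq_two] at h
  rw [← Nat.card_congr eM.toEquiv] at hH2
  rcases eq_or_ne M ⊤ with htop | htop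
  · -- contains the alternating group
    have hAH : A ≤ H := Subgroup.subgroupOf_eq_top.mp htop
    rcases (Nat.dvd_prime Nat.prime_two).mp hrel with h | h
    · have : H ≤ A := Subgroup.relIndex_eq_one.mp h
      exact Or.inl ⟨6, by norm_num, by norm_num, ⟨MulEquiv.subgroupCongr (le_antisymm this hAH)⟩⟩
    · rw [h, show Nat.card M = 360 by rw [htop, Subgroup.card_top, hA]] at hH2
      have : H = ⊤ := Subgroup.eq_top_of_card_eq H (by rw [hH2, Nat.card_perm, Nat.card_fin]; rfl)
      exact Or.inr (Or.inr ⟨(MulEquiv.subgroupCongr this).trans Subgroup.topEquiv⟩)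
  · obtain ⟨hdvd, hle⟩ := simple_index (by norm_num) M htop
    rw [hA] at hdvd hle
    have hidx : M.index = 6 := by
      have h0 : M.index ≠ 0 := Subgroup.index_ne_zero_of_finite
      rcases (show M.index = 1 ∨ M.index = 2 ∨ M.index = 3 ∨ M.index = 4 ∨ M.index = 5 ∨ M.index = 6 by omega)
        with e | e | e | e | e | e <;> rw [e] at hle <;> simp [Nat.factorial] at hle
      exact e
    obtain ⟨e5⟩ := Cfsg.Agent.Classical.Small.alt_point_stab (n := 5) (by norm_num) M hidx
    rcases (Nat.dvd_prime Nat.prime_two).mp hrel with h | h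
    · have hHA : H ≤ A := Subgroup.relIndex_eq_one.mp h
      exact Or.inl ⟨5, by norm_num, by norm_num, ⟨(Subgroup.subgroupOfEquivOfLe hHA).symm.trans e5⟩⟩
    · rw [hidx] at hmul
      rw [h, show Nat.card M = 60 by omega] at hH2
      have hHi : H.index = 6 := by
        have := H.card_mul_index
        rw [hH2, Nat.card_perm, Nat.card_fin, show Nat.factorial 6 = 720 from rfl] at this
        omega
      -- the action on the six cosets
      let ψ := MulAction.toPermHom (Perm (Fin 6)) (Perm (Fin 6) ⧸ H)
      have hker : ψ.ker ≤ H := by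
        intro g hg
        have := congrArg (fun σ : Perm _ => σ ((1 : Perm (Fin 6)) : _ ⧸ H)) (MonoidHom.mem_ker.mp hg)
        simp only [ψ, MulAction.toPermHom_apply, Perm.coe_one, id_eq, MulAction.toPerm_apply,
          MulAction.Quotient.smul_coe, smul_eq_mul, mul_one] at this
        exact by simpa using QuotientGroup.eq.mp this.symm
      have hinj : Function.Injective ψ := by
        rw [← MonoidHom.ker_eq_bot_iff]
        have hsimple : IsSimpleGroup A := alternatingGroup.isSimpleGroup (by simp)
        rcases IsSimpleGroup.eq_bot_or_eq_top_of_normal (ψ.ker.subgroupOf A) inferInstance with hb | hb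
        · -- then it embeds in a group of order two
          have hKn : (ψ.ker.subgroupOf H).Normal := inferInstance
          have hinjK : Function.Injective ((Perm.sign).comp ψ.ker.subtype) := by
            rw [← MonoidHom.ker_eq_bot_iff, eq_bot_iff]
            intro x hx
            have : (⟨(x : Perm (Fin 6)), Perm.mem_alternatingGroup.mpr (by simpa using hx)⟩ : A) ∈
                ψ.ker.subgroupOf A := x.2
            rw [hb, Subgroup.mem_bot] at this
            exact Subgroup.mem_bot.mpr (Subtype.ext (congrArg (fun y : A => (y : Perm (Fin 6))) this))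
          have hs : Group.IsSolvable ψ.ker := Group.isSolvable_of_isSolvable_injective hinjK
          have hs' : Group.IsSolvable (ψ.ker.subgroupOf H) :=
            Group.isSolvable_of_isSolvable_injective
              (f := (Subgroup.subgroupOfEquivOfLe hker).toMonoidHom) (MulEquiv.injective _)
          have := hrf _ hKn hs'
          exact (Subgroup.subgroupOf_eq_bot.mp this).eq_bot_of_le hker
        · exfalso
          have hAH : A ≤ H := (Subgroup.subgroupOf_eq_top.mp hb).trans hker
          exact htop (Subgroup.subgroupOf_eq_top.mpr hAH)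
      have hc6 : Nat.card (Perm (Fin 6) ⧸ H) = 6 := by rw [← Subgroup.index_eq_card, hHi]
      have : Fintype (Perm (Fin 6) ⧸ H) := Fintype.ofFinite _
      set c : Perm (Fin 6) ⧸ H := ((1 : Perm (Fin 6)) : _ ⧸ H)
      have hbij : Function.Bijective ψ :=
        (Nat.bijective_iff_injective_and_card ψ).mpr ⟨hinj, by
          rw [Nat.card_perm, Nat.card_perm, hc6, Nat.card_fin]⟩
      have hstab : ∀ g, g ∈ H ↔ ψ g c = c := by
        intro g
        simp only [ψ, c, MulAction.toPermHom_apply, MulAction.toPerm_apply, MulAction.Quotient.smul_coe,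
          smul_eq_mul, mul_one]
        rw [QuotientGroup.eq, mul_one, inv_mem_iff]
      -- point stabiliser of the symmetric group
      let S := MulAction.stabilizer (Perm (Perm (Fin 6) ⧸ H)) c
      let e1 : H ≃* S :=
        { toFun := fun g => ⟨ψ g, (hstab g).mp g.2⟩
          invFun := fun s => ⟨(Equiv.ofBijective ψ hbij).symm s, (hstab _).mpr (by
            rw [Equiv.ofBijective_apply_symm_apply ψ hbij]; exact s.2)⟩
          left_inv := fun g => Subtype.ext ((Equiv.ofBijective ψ hbij).symm_apply_apply g)
          right_inv := fun s => Subtype.ext (Equiv.ofBijective_apply_symm_apply ψ hbij _)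
          map_mul' := fun a b => Subtype.ext (map_mul ψ _ _) }
      let r : S →* Perm {x : Perm (Fin 6) ⧸ H // x ≠ c} :=
        { toFun := fun s => (s : Perm (Perm (Fin 6) ⧸ H)).subtypePerm (fun x => by
            have hs : (s : Perm (Perm (Fin 6) ⧸ H)) c = c := s.2
            constructor
            · intro hx e; exact hx (by rw [e, hs])
            · intro hx e; exact hx ((s : Perm _).injective (by rw [e, hs])))
          map_one' := by ext; rfl
          map_mul' := fun a b => by ext; rfl }
      have hr : Function.Injective r := by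
        intro a b hab
        apply Subtype.ext
        apply Equiv.ext
        intro x
        rcases eq_or_ne x c with rfl | hx
        · exact (a.2 : (a : Perm _) c = c).trans (b.2 : (b : Perm _) c = c).symm
        · exact congrArg Subtype.val (DFunLike.congr_fun hab ⟨x, hx⟩)
      have hc5 : Nat.card {x : Perm (Fin 6) ⧸ H // x ≠ c} = 5 := by
        rw [Nat.card_eq_fintype_card, Fintype.card_subtype_compl, Fintype.card_subtype_eq,
          ← Nat.card_eq_fintype_card, hc6]
      have hrb : Function.Bijective r := (Nat.bijective_iff_injective_and_card r).mpr ⟨hr, by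
        rw [← Nat.card_congr e1.toEquiv, hH2, Nat.card_perm, hc5]; rfl⟩
      exact Or.inr (Or.inl ⟨e1.trans ((MulEquiv.ofBijective r hrb).trans
        (Finite.equivFinOfCardEq hc5).permCongrHom)⟩)

theorem no_order_fifteen (g : Perm (Fin 7)) : orderOf g ≠ 15 := by
  intro h
  have hl := g.lcm_cycleType
  rw [h] at hl
  have hsum : g.cycleType.sum ≤ 7 := by
    rw [Perm.sum_cycleType]; exact (Finset.card_le_univ _).trans (by simp)
  have hdiv : ∀ n ∈ g.cycleType, n = 3 ∨ n = 5 := by
    intro n hn
    have h1 : n ∣ 15 := hl ▸ Multiset.dvd_lcm hn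
    have h2 := Perm.two_le_of_mem_cycleType hn
    have h3 := Multiset.le_sum_of_mem hn
    have : n ≤ 7 := h3.trans hsum
    interval_cases n <;> simp_all
  by_cases h3 : 3 ∈ g.cycleType
  · by_cases h5 : 5 ∈ g.cycleType
    · obtain ⟨t, ht⟩ := Multiset.exists_cons_of_mem h3
      rw [ht] at h5 hsum
      rcases Multiset.mem_cons.mp h5 with e | e
      · exact absurd e (by norm_num)
      · have := Multiset.le_sum_of_mem e
        rw [Multiset.sum_cons] at hsum
        omega
    · have : g.cycleType.lcm ∣ 3 := Multiset.lcm_dvd.mpr fun n hn => by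
        rcases hdiv n hn with rfl | rfl
        · exact dvd_rfl
        · exact absurd hn h5
      rw [hl] at this
      norm_num at this
  · have : g.cycleType.lcm ∣ 5 := Multiset.lcm_dvd.mpr fun n hn => by
      rcases hdiv n hn with rfl | rfl
      · exact absurd hn h3
      · exact dvd_rfl
    rw [hl] at this
    norm_num at this

/-- A transitive group on seven points. -/
theorem perm_degree7 (H : Subgroup (Perm (Fin 7))) (hA : H ≤ alternatingGroup (Fin 7))
    (hrf : RadFree H) (h7 : 7 ∣ Nat.card H)
    (hnorm : ∀ P : Sylow 7 H, Nat.card (Subgroup.normalizer ((P : Subgroup H) : Set H)) ∣ 21)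
    (hfpf : ∀ M : Subgroup H, M.Normal → ¬ 7 ∣ Nat.card M → M = ⊥) :
    (∃ n : ℕ, 5 ≤ n ∧ n ≤ 8 ∧ Nonempty (H ≃* alternatingGroup (Fin n))) ∨
      Nat.card H = 168 := by
  have : Fact (Nat.Prime 7) := ⟨by norm_num⟩
  have hA7 : Nat.card (alternatingGroup (Fin 7)) = 2520 := alt_card (by norm_num) rfl
  have hd : Nat.card H ∣ 2520 := hA7 ▸ Subgroup.card_dvd_of_le hA
  have : Nontrivial H := by
    rw [← Finite.one_lt_card_iff_nontrivial]
    exact (by norm_num : 1 < 7).trans_le (Nat.le_of_dvd Nat.card_pos h7)
  obtain ⟨P⟩ := (inferInstance : Nonempty (Sylow 7 H))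
  have hPd : Nat.card P ∣ 2520 := (Subgroup.card_subgroup_dvd_card _).trans hd
  obtain ⟨k, hk⟩ := IsPGroup.iff_card.mp P.2
  have hk1 : k = 1 := by
    rcases k with _ | _ | k
    · have := P.dvd_card_of_dvd_card h7
      rw [hk] at this
      simp at this
    · rfl
    · rw [hk] at hPd
      have h49 : 7 ^ 2 ∣ 2520 := (pow_dvd_pow 7 (by omega)).trans hPd
      norm_num at h49
  subst hk1
  rw [pow_one] at hk
  have hN7 : (Nat.card (Subgroup.normalizer ((P : Subgroup H) : Set H))) ≠ 7 :=
    card_normalizer_ne hrf P hk (fun M hM hnd => by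
      rw [hfpf M hM hnd]
      exact Group.isSolvable_of_isSolvable_injective (f := (1 : (⊥ : Subgroup H) →* Multiplicative (ZMod 1)))
        (fun a b _ => Subsingleton.elim a b))
      (fun h => hrf.not_solvable (solvable_two_primes 7 7 (by norm_num) (by norm_num) (a := 1) (b := 0)
        (by rw [h]; norm_num)))
  have hN : Nat.card (Subgroup.normalizer ((P : Subgroup H) : Set H)) = 21 := by
    have h1 := hnorm P
    have h2 : 7 ∣ Nat.card (Subgroup.normalizer ((P : Subgroup H) : Set H)) :=
      (dvd_of_eq hk.symm).trans (Subgroup.card_dvd_of_le Subgroup.le_normalizer)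
    obtain ⟨c, hc⟩ := h2
    rw [hc] at h1 hN7 ⊢
    have : c ∣ 3 := Nat.dvd_of_mul_dvd_mul_left (by norm_num : 0 < 7) (by simpa using h1)
    rcases (Nat.dvd_prime Nat.prime_three).mp this with rfl | rfl
    · norm_num at hN7
    · rfl
  have hcard : Nat.card H = 21 * Nat.card (Sylow 7 H) := by
    have h1 := Subgroup.card_mul_index (Subgroup.normalizer ((P : Subgroup H) : Set H))
    have h2 : Nat.card (Sylow 7 H) = (Subgroup.normalizer ((P : Subgroup H) : Set H)).index :=
      P.card_eq_index_normalizer
    rw [hN, ← h2] at h1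
    omega
  have hn7d : Nat.card (Sylow 7 H) ∣ 120 := by
    have : 21 * Nat.card (Sylow 7 H) ∣ 21 * 120 := by rw [← hcard]; exact hd
    exact Nat.dvd_of_mul_dvd_mul_left (by norm_num) this
  have hn7m := card_sylow_modEq_one 7 H
  have hle := Nat.le_of_dvd (by norm_num) hn7d
  have key : ∀ n : Fin 121, n.val ∣ 120 → n.val % 7 = 1 → n.val = 1 ∨ n.val = 8 ∨ n.val = 15 ∨ n.val = 120 := by
    decide +kernel
  rcases key ⟨_, Nat.lt_succ_of_le hle⟩ hn7d hn7m with e | e | e | e <;>
    simp only at e <;> rw [e] at hcard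
  · exact absurd (solvable_two_primes 3 7 Nat.prime_three (by norm_num) (a := 1) (b := 1)
      (by rw [hcard]; norm_num)) hrf.not_solvable
  · exact Or.inr hcard
  · exfalso
    have : Fact (Nat.Prime 5) := ⟨by norm_num⟩
    obtain ⟨Q⟩ := (inferInstance : Nonempty (Sylow 5 H))
    have hQ : Nat.card Q = 5 :=
      (Cfsg.Agent.Classical.Small.sylow_card_eq Q (m := 63) hcard (by norm_num)).1
    have hQi : (Q : Subgroup H).index = 63 :=
      (Cfsg.Agent.Classical.Small.sylow_card_eq Q (m := 63) hcard (by norm_num)).2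
    have hn5 := Q.card_dvd_index
    rw [hQi] at hn5
    have hle5 := Nat.le_of_dvd (by norm_num) hn5
    have key5 : ∀ n : Fin 64, n.val ∣ 63 → n.val % 5 = 1 → n.val = 1 ∨ n.val = 21 := by decide +kernel
    rcases key5 ⟨_, Nat.lt_succ_of_le hle5⟩ hn5 (card_sylow_modEq_one 5 H) with e5 | e5 <;>
      simp only at e5
    · have : Subsingleton (Sylow 5 H) := (Nat.card_eq_one_iff_unique.1 e5).1
      have hn : (Q : Subgroup H).Normal := Sylow.normal_of_subsingleton Q
      have := hrf _ hn (solvable_two_primes 5 5 (by norm_num) (by norm_num) (a := 1) (b := 0)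
        (by rw [hQ]; norm_num))
      rw [this, Subgroup.card_bot] at hQ
      norm_num at hQ
    · have hNQ : Nat.card (Subgroup.normalizer ((Q : Subgroup H) : Set H)) = 15 := by
        have h1 := Subgroup.card_mul_index (Subgroup.normalizer ((Q : Subgroup H) : Set H))
        have h2 : Nat.card (Sylow 5 H) = (Subgroup.normalizer ((Q : Subgroup H) : Set H)).index :=
          Q.card_eq_index_normalizer
        rw [← h2, e5, hcard] at h1
        omega
      have : Fact (Nat.Prime 3) := ⟨Nat.prime_three⟩
      obtain ⟨x, hx⟩ := exists_prime_orderOf_dvd_card'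
        (G := Subgroup.normalizer ((Q : Subgroup H) : Set H)) 3 (by rw [hNQ]; norm_num)
      obtain ⟨y, hy⟩ := exists_prime_orderOf_dvd_card' (G := (Q : Subgroup H)) 5 (by rw [hQ])
      have hx' : orderOf (x : H) = 3 := by rwa [Subgroup.orderOf_coe]
      have hy' : orderOf (y : H) = 5 := by rwa [Subgroup.orderOf_coe]
      have hzp : Subgroup.zpowers (y : H) = (Q : Subgroup H) :=
        Subgroup.eq_of_le_of_card_ge (Subgroup.zpowers_le.mpr y.2) (by rw [Nat.card_zpowers, hy', hQ])
      have hmem : (x : H) * y * (x : H)⁻¹ ∈ Subgroup.zpowers (y : H) := by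
        rw [hzp]; exact (Subgroup.mem_normalizer_iff.mp x.2 _).mp y.2
      obtain ⟨m, hm', hm⟩ : ∃ m < 5, (y : H) ^ m = (x : H) * y * (x : H)⁻¹ := by
        obtain ⟨m, hm, e⟩ := Finset.mem_image.mp (mem_zpowers_iff_mem_range_orderOf.mp hmem)
        exact ⟨m, by rw [Finset.mem_range, hy'] at hm; exact hm, e⟩
      have hpow : ∀ n : ℕ, MulAut.conj (x : H) ((y : H) ^ n) = (y : H) ^ (m * n) := by
        intro n
        rw [map_pow, MulAut.conj_apply, ← hm, ← pow_mul]
      have h3 : (y : H) ^ (m * (m * m)) = (y : H) ^ 1 := by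
        have e3 : MulAut.conj (x : H) (MulAut.conj (x : H) (MulAut.conj (x : H) ((y : H) ^ 1))) =
            (y : H) ^ 1 := by
          simp only [MulAut.conj_apply]
          have : (x : H) ^ 3 = 1 := hx' ▸ pow_orderOf_eq_one _
          calc (x : H) * ((x : H) * ((x : H) * (y : H) ^ 1 * (x : H)⁻¹) * (x : H)⁻¹) * (x : H)⁻¹
              = (x : H) ^ 3 * (y : H) ^ 1 * ((x : H) ^ 3)⁻¹ := by simp [pow_succ, mul_assoc]
            _ = _ := by rw [this]; group
        rw [hpow, hpow, hpow, mul_one] at e3
        exact e3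
      rw [pow_inj_mod, hy'] at h3
      have keym : ∀ m : Fin 5, (m.val * (m.val * m.val)) % 5 = 1 % 5 → m.val = 1 := by decide
      have hm1 := keym ⟨m, hm'⟩ h3
      simp only at hm1
      subst hm1
      have hcomm : Commute (x : H) (y : H) := by
        rw [pow_one] at hm
        show (x : H) * y = y * x
        calc (x : H) * y = ((x : H) * y * (x : H)⁻¹) * x := by group
          _ = _ := by rw [← hm]
      have h15 := hcomm.orderOf_mul_eq_mul_orderOf_of_coprime (by rw [hx', hy']; norm_num)
      rw [hx', hy', ← Subgroup.orderOf_coe] at h15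
      exact no_order_fifteen _ h15
  · exact Or.inl ⟨7, by norm_num, by norm_num, ⟨MulEquiv.subgroupCongr
      (Subgroup.eq_of_le_of_card_ge hA (by rw [hA7, hcard]))⟩⟩

end Cfsg.Agent.SubA8
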