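import Mathlib
import Cfsg.Agent.SubA8.Degree

/-!
# Subgroups of `A₈ ≅ GL₄(2)` without solvable normal subgroups
-/

set_option autoImplicit false

namespace Cfsg.Agent.SubA8

open Equiv

theorem sq_one_seven : ∀ a : ZMod 7, a * a = 1 → a = 1 ∨ a = -1 := by decide

theorem half_seven : ∀ a i : ZMod 7, a - i = i ↔ i = 4 * a := by decide

open scoped Pointwise in
theorem normalizer7 {G : Type*} [Group G] [Finite G] (f : G →* Perm (Fin 8))
    (hf : Function.Injective f) (heven : ∀ g, Perm.sign (f g) = 1) (Q : Subgroup G)
    (hQ : Nat.card Q = 7) : Nat.card (Subgroup.normalizer (Q : Set G)) ∣ 21 := by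
  have : Fact (Nat.Prime 7) := ⟨by norm_num⟩
  obtain ⟨q₀, hq₀⟩ := exists_prime_orderOf_dvd_card' (G := Q) 7 (dvd_of_eq hQ.symm)
  set q : G := (q₀ : G) with hqdef
  have hq : orderOf q = 7 := by rw [hqdef, Subgroup.orderOf_coe, hq₀]
  have hzp : Subgroup.zpowers q = Q :=
    Subgroup.eq_of_le_of_card_ge (Subgroup.zpowers_le.mpr q₀.2) (by rw [Nat.card_zpowers, hq, hQ])
  set g := f q with hg
  have hog : orderOf g = 7 := by rw [hg, orderOf_injective f hf, hq]
  obtain ⟨c, hc⟩ := Perm.cycleType_prime_order (σ := g) (by rw [hog]; norm_num)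
  rw [hog] at hc
  have hsupp : g.support.card = 7 := by
    have h1 := g.sum_cycleType
    rw [hc, Multiset.sum_replicate, smul_eq_mul] at h1
    have h2 : g.support.card ≤ 8 := (Finset.card_le_univ _).trans (by simp)
    rw [← h1] at h2
    have : c = 0 := by omega
    rw [← h1, this]
  obtain ⟨z, hz⟩ : ∃ z, g.supportᶜ = {z} := Finset.card_eq_one.mp (by
    rw [Finset.card_compl, hsupp]; rfl)
  have hfixz : ∀ x, g x = x ↔ x = z := by
    intro x
    have := Finset.ext_iff.mp hz x
    simpa [Perm.mem_support] using this
  obtain ⟨w, hw⟩ : ∃ w, g w ≠ w := by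
    by_contra hall
    push Not at hall
    have : g = 1 := Perm.ext hall
    rw [this, orderOf_one] at hog
    norm_num at hog
  -- the seven moved points
  let ψ : ZMod 7 → Fin 8 := fun i => (g ^ i.val) w
  have hg7 : g ^ 7 = 1 := hog ▸ pow_orderOf_eq_one g
  have hψ_add : ∀ n : ℕ, (g ^ n) w = ψ (n : ZMod 7) := by
    intro n
    simp only [ψ, ZMod.val_natCast]
    rw [← hog, pow_mod_orderOf]
  have hψinj : Function.Injective ψ := by
    intro i j hij
    by_contra hne
    wlog hlt : i.val < j.val generalizing i j with H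
    · exact H hij.symm (Ne.symm hne)
        (lt_of_le_of_ne (not_lt.mp hlt) fun e => hne (ZMod.val_injective 7 e.symm))
    have hfix : (g ^ (j.val - i.val)) w = w := by
      have e : (g ^ i.val) ((g ^ (j.val - i.val)) w) = (g ^ i.val) w := by
        rw [← Perm.mul_apply, ← pow_add, Nat.add_sub_cancel' hlt.le]
        exact hij.symm
      exact (g ^ i.val).injective e
    have hcop : Nat.Coprime (j.val - i.val) 7 := by
      refine ((Nat.Prime.coprime_iff_not_dvd (by norm_num)).mpr fun hd => ?_).symm
      have := Nat.le_of_dvd (by omega) hd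
      have := ZMod.val_lt j
      omega
    obtain ⟨m, hm⟩ := exists_pow_eq_self_of_coprime (x := g) (by rwa [hog])
    have hfix' : ((g ^ (j.val - i.val)) ^ m) w = w := Perm.pow_apply_eq_self_of_apply_eq_self hfix m
    rw [hm] at hfix'
    exact hw hfix'
  have hψne : ∀ i, ψ i ≠ z := by
    intro i h
    have hgw : (g ^ i.val) (g w) = (g ^ i.val) w := by
      rw [← Perm.mul_apply, ← pow_succ, pow_succ', Perm.mul_apply]
      exact (hfixz _).mpr h |>.trans rfl
    exact hw ((g ^ i.val).injective hgw)
  have hcover : ∀ x, x ≠ z → ∃ i, ψ i = x := by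
    intro x hx
    by_contra hnone
    push Not at hnone
    have hsub : (Finset.univ.image ψ) ∪ {x, z} ⊆ (Finset.univ : Finset (Fin 8)) := Finset.subset_univ _
    have hc := Finset.card_le_card hsub
    rw [Finset.card_union_of_disjoint (by
      rw [Finset.disjoint_left]
      intro y hy hy'
      obtain ⟨i, -, rfl⟩ := Finset.mem_image.mp hy
      rcases Finset.mem_insert.mp hy' with e | e
      · exact hnone i e
      · exact hψne i (Finset.mem_singleton.mp e)), Finset.card_image_of_injective _ hψinj,
      Finset.card_pair hx, Finset.card_univ, Finset.card_univ, ZMod.card, Fintype.card_fin] at hc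
    omega
  set N := Subgroup.normalizer (Q : Set G)
  have hnorm : ∀ n : N, ∃ j : ℕ, (n : G) * q * (n : G)⁻¹ = q ^ j := by
    classical
    intro n
    have hm : (n : G) * q * (n : G)⁻¹ ∈ Subgroup.zpowers q := by
      rw [hzp]; exact (Subgroup.mem_normalizer_iff.mp n.2 q).mp q₀.2
    obtain ⟨j, -, hj⟩ := Finset.mem_image.mp (mem_zpowers_iff_mem_range_orderOf.mp hm)
    exact ⟨j, hj.symm⟩
  have hNz : ∀ n : N, f n z = z := by
    intro n
    obtain ⟨j, hj⟩ := hnorm n⁻¹
    rw [← hfixz]
    have e : g * f n = f n * g ^ j := by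
      rw [hg, ← map_pow, ← map_mul, ← map_mul, ← hj]
      congr 1
      simp [mul_assoc]
    have := DFunLike.congr_fun e z
    rw [Perm.mul_apply, Perm.mul_apply, Perm.pow_apply_eq_self_of_apply_eq_self ((hfixz z).mpr rfl)] at this
    exact this
  -- the centraliser
  set C : Subgroup N := (Subgroup.centralizer {q}).subgroupOf N
  have hCcard : Nat.card C ∣ 7 := by
    have hle : Nat.card C ≤ 7 := by
      have hinj : Function.Injective (fun n : C => (⟨f n.1.1 w, fun h => by
          have hzz := hNz n.1
          rw [← hzz] at h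
          exact hw ((hfixz w).mpr ((f n.1.1).injective h))⟩ : {x : Fin 8 // x ≠ z})) := by
        intro a b hab
        have hab' : f a.1.1 w = f b.1.1 w := congrArg Subtype.val hab
        apply Subtype.ext
        apply Subtype.ext
        apply hf
        apply Equiv.ext
        intro x
        rcases eq_or_ne x z with rfl | hx
        · rw [hNz a.1, hNz b.1]
        obtain ⟨i, rfl⟩ := hcover x hx
        have hca : ∀ m : C, f m.1.1 (ψ i) = (g ^ i.val) (f m.1.1 w) := by
          intro m
          have hcomm : Commute q m.1.1 := Subgroup.mem_centralizer_iff.mp m.2 q rfl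
          have := ((hcomm.map f).pow_left i.val).eq
          exact (DFunLike.congr_fun this w).symm
        rw [hca, hca, hab']
      refine (Nat.card_le_card_of_injective _ hinj).trans ?_
      rw [Nat.card_eq_fintype_card, Fintype.card_subtype_compl, Fintype.card_subtype_eq, Fintype.card_fin]
    have h7 : 7 ∣ Nat.card C := by
      rw [← hq]
      have hqN : q ∈ N := Subgroup.le_normalizer q₀.2
      have hqC : (⟨q, hqN⟩ : N) ∈ C := Subgroup.mem_centralizer_iff.mpr (by rintro _ rfl; rfl)
      have := Subgroup.orderOf_dvd_natCard C hqC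
      rwa [Subgroup.orderOf_mk] at this
    have := Nat.le_of_dvd Nat.card_pos h7
    exact dvd_of_eq (le_antisymm hle this)
  -- the action on `Q`
  let φ : N →* MulAut Q := MulDistribMulAction.toMulAut N Q |>.comp (MonoidHom.id N)
  have hker : ∀ n : N, n ∈ φ.ker → n ∈ C := by
    intro n hn
    have := congrArg Subtype.val (DFunLike.congr_fun (MonoidHom.mem_ker.mp hn) q₀)
    refine Subgroup.mem_centralizer_iff.mpr ?_
    rintro _ rfl
    have e : (n : G) * q * (n : G)⁻¹ = q := this
    calc q * (n : G) = ((n : G) * q * (n : G)⁻¹) * n := by rw [e]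
      _ = (n : G) * q := by group
  have haut : Nat.card (MulAut Q) = 6 := by
    have : IsCyclic Q := isCyclic_of_prime_card hQ
    rw [IsCyclic.card_mulAut, hQ]
    rfl
  have hNd : Nat.card N ∣ 42 := by
    have h1 := φ.ker.card_mul_index
    rw [Subgroup.index_ker] at h1
    rw [← h1, show (42 : ℕ) = 7 * 6 from rfl]
    exact mul_dvd_mul ((Subgroup.card_dvd_of_le hker).trans hCcard)
      (haut ▸ Subgroup.card_subgroup_dvd_card _)
  by_cases h2 : 2 ∣ Nat.card N
  · exfalso
    have : Fact (Nat.Prime 2) := ⟨Nat.prime_two⟩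
    obtain ⟨t, ht⟩ := exists_prime_orderOf_dvd_card' (G := N) 2 h2
    have htt : (t : G) * t = 1 := by
      have := pow_orderOf_eq_one t
      rw [ht, sq] at this
      exact congrArg Subtype.val this
    obtain ⟨j, hj⟩ := hnorm t
    have hj2 : q ^ (j * j) = q ^ 1 := by
      have e : MulAut.conj (t : G) (MulAut.conj (t : G) q) = q := by
        rw [← MulAut.mul_apply, ← map_mul, htt, map_one, MulAut.one_apply]
      have e' : MulAut.conj (t : G) q = q ^ j := hj
      rw [e', map_pow, e', ← pow_mul] at e
      rw [e, pow_one]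
    rw [pow_inj_mod, hq] at hj2
    have key := sq_one_seven
    have hjz : ((j : ZMod 7)) * (j : ZMod 7) = 1 := by
      rw [← Nat.cast_mul, ← Nat.cast_one, ZMod.natCast_eq_natCast_iff']
      exact hj2
    rcases key _ hjz with hj1 | hj1
    · -- centralises
      have htC : t ∈ C := by
        refine Subgroup.mem_centralizer_iff.mpr ?_
        rintro _ rfl
        have : q ^ j = q ^ 1 := by
          rw [pow_inj_mod, hq, ← ZMod.natCast_eq_natCast_iff', hj1, Nat.cast_one]
        rw [this, pow_one] at hj
        calc q * (t : G) = ((t : G) * q * (t : G)⁻¹) * t := by rw [hj]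
          _ = (t : G) * q := by group
      have := (Subgroup.orderOf_dvd_natCard C htC).trans hCcard
      rw [ht] at this
      norm_num at this
    · set T := f t with hT
      have hTT : T * T = 1 := by rw [hT, ← map_mul, htt, map_one]
      have hTz : T z = z := hNz t
      obtain ⟨a, ha⟩ := hcover (T w) (fun h => by
        rw [← hTz] at h
        exact hw ((hfixz w).mpr (T.injective h)))
      have hTψ : ∀ i : ZMod 7, T (ψ i) = ψ (a - i) := by
        intro i
        have e : T * g ^ i.val = g ^ (j * i.val) * T := by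
          have : MulAut.conj (t : G) (q ^ i.val) = q ^ (j * i.val) := by
            rw [map_pow, show MulAut.conj (t : G) q = q ^ j from hj, pow_mul]
          rw [MulAut.conj_apply, mul_inv_eq_iff_eq_mul] at this
          rw [hT, hg, ← map_pow, ← map_pow, ← map_mul, ← map_mul, this]
        have e' := DFunLike.congr_fun e w
        rw [Perm.mul_apply, Perm.mul_apply, ← ha] at e'
        show T ((g ^ i.val) w) = _
        rw [e']
        simp only [ψ]
        rw [← Perm.mul_apply, ← pow_add, hψ_add, Nat.cast_add, Nat.cast_mul, hj1, ZMod.natCast_zmod_val,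
          ZMod.natCast_zmod_val]
        show ψ (-1 * i + a) = ψ (a - i)
        ring_nf
      have h8 : ψ (4 * a) ≠ z := hψne _
      have hfix : ∀ x, T x = x ↔ x = z ∨ x = ψ (4 * a) := by
        intro x
        rcases eq_or_ne x z with rfl | hx
        · simp [hTz]
        obtain ⟨i, rfl⟩ := hcover x hx
        rw [hTψ, hψinj.eq_iff, hψinj.eq_iff]
        have key2 := half_seven
        simp [key2 a i, hψne i]
      have hTsupp : T.support = Finset.univ \ {z, ψ (4 * a)} := by
        ext x
        simp [Perm.mem_support, hfix]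
      have hTc : T.support.card = 6 := by
        rw [hTsupp, Finset.card_sdiff_of_subset (Finset.subset_univ _), Finset.card_pair h8.symm]
        rfl
      have hoT : orderOf T = 2 := by rw [hT, orderOf_injective f hf, Subgroup.orderOf_coe, ht]
      obtain ⟨c, hc⟩ := Perm.cycleType_prime_order (σ := T) (by rw [hoT]; norm_num)
      rw [hoT] at hc
      have hsum := T.sum_cycleType
      rw [hc, Multiset.sum_replicate, smul_eq_mul, hTc] at hsum
      have hc2 : c = 2 := by omega
      have hs := heven (t : G)
      rw [← hT, Perm.sign_of_cycleType, hc, hc2] at hs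
      exact absurd hs (by decide)
  · have key : ∀ n : Fin 43, n.val ∣ 42 → ¬ 2 ∣ n.val → n.val ∣ 21 := by decide +kernel
    exact key ⟨_, Nat.lt_succ_of_le (Nat.le_of_dvd (by norm_num) hNd)⟩ hNd h2

variable {H : Subgroup (Perm (Fin 8))}

theorem card_dvd (hA : H ≤ alternatingGroup (Fin 8)) : Nat.card H ∣ 20160 := by
  rw [← alt_card (n := 8) (k := 20160) (by norm_num) rfl]
  exact Subgroup.card_dvd_of_le hA

theorem no_normal (hA : H ≤ alternatingGroup (Fin 8)) {a : ℕ} (hc : Nat.card H = 21 * 2 ^ a)
    (hrf : RadFree H) (M : Subgroup H) (hM : M.Normal) : M = ⊥ ∨ M = ⊤ := by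
  have : Fact (Nat.Prime 7) := ⟨by norm_num⟩
  by_cases h7 : 7 ∣ Nat.card M
  · right
    obtain ⟨P⟩ := (inferInstance : Nonempty (Sylow 7 M))
    have hP7 : Nat.card P = 7 := by
      obtain ⟨k, hk⟩ := IsPGroup.iff_card.mp P.2
      have hd : Nat.card P ∣ 21 * 2 ^ a :=
        hc ▸ (Subgroup.card_subgroup_dvd_card _).trans (Subgroup.card_subgroup_dvd_card _)
      rcases k with _ | _ | k
      · have := P.dvd_card_of_dvd_card h7
        rw [hk] at this
        simp at this
      · simpa using hk
      · exfalso
        rw [hk] at hd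
        have h2 : 7 ^ 2 ∣ 21 * 2 ^ a := (pow_dvd_pow 7 (by omega)).trans hd
        have h3 : 7 ^ 2 ∣ 21 := (Nat.Coprime.pow 2 a (by norm_num : Nat.Coprime 7 2)).dvd_of_dvd_mul_right h2
        norm_num at h3
    have hsup := Sylow.normalizer_sup_eq_top P
    set N := Subgroup.normalizer (((P : Subgroup M).map M.subtype : Subgroup H) : Set H)
    have hN21 : Nat.card N ∣ 21 := normalizer7 H.subtype H.subtype_injective
      (fun g => Perm.mem_alternatingGroup.mp (hA g.2)) _ (by
        rw [Subgroup.card_map_of_injective M.subtype_injective, hP7])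
    have hidx : M.index ∣ 21 := by
      have e : M.index = M.relIndex N := by
        rw [← Subgroup.relIndex_top_right M, ← hsup, Subgroup.relIndex_sup_right]
      rw [e]
      exact (Dvd.intro_left _ (Subgroup.card_mul_index (M.subgroupOf N))).trans hN21
    have hi7 : ¬ 7 ∣ M.index := by
      intro hd
      have := mul_dvd_mul h7 hd
      rw [M.card_mul_index, hc] at this
      have h49 : 7 ^ 2 ∣ 21 := (Nat.Coprime.pow 2 a (by norm_num : Nat.Coprime 7 2)).dvd_of_dvd_mul_right
        (by simpa [sq] using this)
      norm_num at h49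
    have key : ∀ n : Fin 22, n.val ∣ 21 → ¬ 7 ∣ n.val → n.val = 1 ∨ n.val = 3 := by decide +kernel
    rcases key ⟨_, Nat.lt_succ_of_le (Nat.le_of_dvd (by norm_num) hidx)⟩ hidx hi7 with h | h <;>
      simp only at h
    · exact Subgroup.index_eq_one.mp h
    · exfalso
      have hcard := M.card_mul_index
      rw [h, hc] at hcard
      have hMc : Nat.card M = 7 * 2 ^ a := by omega
      have := hrf M hM (solvable_two_primes 7 2 (by norm_num) Nat.prime_two (a := 1) (b := a)
        (by rw [hMc, pow_one]))
      rw [this, Subgroup.card_bot] at hMc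
      have : 0 < 2 ^ a := by positivity
      omega
  · left
    refine hrf M hM (solvable_two_primes 2 3 Nat.prime_two Nat.prime_three (a := a) (b := 1) ?_)
    have hd : Nat.card M ∣ 7 * (3 * 2 ^ a) := by
      rw [show 7 * (3 * 2 ^ a) = 21 * 2 ^ a by ring, ← hc]
      exact M.card_subgroup_dvd_card
    rw [pow_one, mul_comm]
    exact (((Nat.Prime.coprime_iff_not_dvd (by norm_num)).mpr h7).symm).dvd_of_dvd_mul_left hd

theorem card_dvd_of_multiply {G α : Type*} [Group G] [MulAction G α] [Finite G] [Finite α]
    (n : ℕ) [hne : Nonempty (Fin n ↪ α)] (h : MulAction.IsMultiplyPretransitive G α n) :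
    Nat.card (Fin n ↪ α) ∣ Nat.card G := by
  obtain ⟨e⟩ := hne
  have := h
  rw [← MulAction.index_stabilizer_of_transitive G e]
  exact Subgroup.index_dvd_card _

open scoped Pointwise in
theorem case_five (hA : H ≤ alternatingGroup (Fin 8)) [MulAction.IsPretransitive H (Fin 8)]
    (h5 : 5 ∣ Nat.card H) : H = alternatingGroup (Fin 8) := by
  classical
  have : Fact (Nat.Prime 5) := ⟨by norm_num⟩
  obtain ⟨g₀, hg₀⟩ := exists_prime_orderOf_dvd_card' (G := H) 5 h5
  set g : Perm (Fin 8) := (g₀ : Perm (Fin 8)) with hgdef
  have hog : orderOf g = 5 := by rw [hgdef, Subgroup.orderOf_coe, hg₀]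
  obtain ⟨c, hc⟩ := Perm.cycleType_prime_order (σ := g) (by rw [hog]; norm_num)
  rw [hog] at hc
  have hsum := g.sum_cycleType
  rw [hc, Multiset.sum_replicate, smul_eq_mul] at hsum
  have hs8 : g.support.card ≤ 8 := (Finset.card_le_univ _).trans (by simp)
  have hc0 : c = 0 := by omega
  subst hc0
  have hsupp : g.support.card = 5 := by omega
  have hcyc : g.IsCycle := Perm.card_cycleType_eq_one.mp (by rw [hc]; simp)
  have hprim : MulAction.IsPreprimitive H (Fin 8) := by
    refine ⟨fun {B} hB => ?_⟩
    rcases Set.eq_empty_or_nonempty B with he | hne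
    · exact Or.inl (he ▸ Set.subsingleton_empty)
    by_cases hsub : B.Subsingleton
    · exact Or.inl hsub
    by_cases huniv : B = Set.univ
    · exact Or.inr huniv
    exfalso
    have hdvd := hB.ncard_dvd_card hne
    rw [Nat.card_fin] at hdvd
    have hlt : B.ncard < 8 := by
      have := Set.ncard_lt_card huniv
      rwa [Nat.card_fin] at this
    have hle4 : B.ncard ≤ 4 := by
      have key : ∀ n : Fin 8, n.val ∣ 8 → n.val ≤ 4 := by decide +kernel
      exact key ⟨_, hlt⟩ hdvd
    have h2 : 2 ≤ B.ncard := by
      by_contra h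
      exact hsub (Set.ncard_le_one_iff_subsingleton.mp (by omega))
    -- every translate is invariant under `g`
    have hinv : ∀ x : H, g₀ • (x • B) = x • B := by
      intro x
      by_contra hne'
      have hb : ∀ i : ℕ, MulAction.IsBlock H ((g₀ ^ i * x) • B) := fun i => hB.translate _
      let S : Finset (Set (Fin 8)) := (Finset.range 5).image fun i => (g₀ ^ i * x) • B
      have hS : S.card = 5 := by
        rw [Finset.card_image_of_injOn, Finset.card_range]
        have key : ∀ i j : ℕ, i < j → j < 5 → (g₀ ^ i * x) • B ≠ (g₀ ^ j * x) • B := by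
          intro i j hl hj hij
          have hfix : g₀ ^ (j - i) • (x • B) = x • B := by
            have e : g₀ ^ i • (g₀ ^ (j - i) • (x • B)) = g₀ ^ i • (x • B) := by
              rw [smul_smul, ← pow_add, Nat.add_sub_cancel' hl.le, ← mul_smul, ← mul_smul]
              exact hij.symm
            exact MulAction.injective _ e
          have hcop : Nat.Coprime (j - i) 5 := by
            refine ((Nat.Prime.coprime_iff_not_dvd (by norm_num)).mpr fun hd => ?_).symm
            have := Nat.le_of_dvd (by omega) hd
            omega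
          obtain ⟨m, hm⟩ := exists_pow_eq_self_of_coprime (x := g₀) (by rwa [hg₀])
          have hst : g₀ ^ (j - i) ∈ MulAction.stabilizer H (x • B) := hfix
          have := pow_mem hst m
          rw [hm] at this
          exact hne' this
        intro i hi j hj hij
        simp only [Finset.coe_range, Set.mem_Iio] at hi hj
        simp only at hij
        rcases lt_trichotomy i j with hl | hl | hl
        · exact absurd hij (key i j hl hj)
        · exact hl
        · exact absurd hij.symm (key j i hl hi)
      have hdisj : (S : Set (Set (Fin 8))).PairwiseDisjoint id := by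
        intro s hs t ht hst
        simp only [S, Finset.coe_image, Set.mem_image] at hs ht
        obtain ⟨i, -, rfl⟩ := hs
        obtain ⟨j, -, rfl⟩ := ht
        exact hB (fun e => hst e)
      have hcard : ∀ s ∈ S, s.toFinset.card = B.ncard := by
        intro s hs
        simp only [S, Finset.mem_image] at hs
        obtain ⟨i, -, rfl⟩ := hs
        rw [← Set.ncard_eq_toFinset_card']
        exact Set.ncard_image_of_injective B (MulAction.injective _)
      have := Finset.card_le_univ (S.biUnion fun s => s.toFinset)
      rw [Finset.card_biUnion ?_, Finset.sum_congr rfl hcard, Finset.sum_const, hS, smul_eq_mul,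
        Fintype.card_fin] at this
      swap
      · intro s hs t ht hst
        exact Set.disjoint_toFinset.mpr (hdisj hs ht hst)
      omega
    obtain ⟨w, hw⟩ : ∃ w, g w ≠ w := by
      obtain ⟨w, hw⟩ := Finset.card_pos.mp (by omega : 0 < g.support.card)
      exact ⟨w, Perm.mem_support.mp hw⟩
    obtain ⟨b, hb⟩ := hne
    obtain ⟨x, hx⟩ := MulAction.exists_smul_eq H b w
    have hmem : ∀ i : ℕ, (g ^ i) w ∈ x • B := by
      intro i
      induction i with
      | zero => exact ⟨b, hb, by simpa using hx⟩
      | succ i ih =>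
        have := Set.smul_mem_smul_set (a := g₀) ih
        rw [hinv] at this
        rw [pow_succ', Perm.mul_apply]
        exact this
    have hsubset : (g.support : Set (Fin 8)) ⊆ x • B := by
      intro y hy
      obtain ⟨i, hi⟩ := (hcyc.sameCycle hw (Perm.mem_support.mp hy)).exists_nat_pow_eq
      exact hi ▸ hmem i
    have := Set.ncard_le_ncard hsubset (Set.toFinite _)
    rw [Set.ncard_coe_finset, hsupp, show (x • B).ncard = B.ncard from
      Set.ncard_image_of_injective B (MulAction.injective _)] at this
    omega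
  have hsc : ((g.support : Set (Fin 8))ᶜ).ncard = 2 + 1 := by
    rw [Set.ncard_compl, Set.ncard_coe_finset, hsupp, Nat.card_fin]
  have h4 : MulAction.IsMultiplyPreprimitive H (Fin 8) (2 + 2) := by
    refine hprim.isMultiplyPreprimitive hsc (by simp) ?_
    have := Perm.isPretransitive_of_isCycle_mem hcyc g₀.2
    apply MulAction.IsPreprimitive.of_prime_card
    convert (by norm_num : Nat.Prime 5)
    rw [Nat.card_eq_fintype_card, Fintype.card_subtype, ← hsupp]
    congr 1
    ext y
    simp [SubMulAction.mem_ofFixingSubgroup_iff, Perm.mem_support]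
  have hpt : MulAction.IsMultiplyPretransitive H (Fin 8) 4 := h4.isMultiplyPretransitive
  have h1680 : 1680 ∣ Nat.card H := by
    have : Nonempty (Fin 4 ↪ Fin 8) := ⟨Fin.castLEEmb (by norm_num)⟩
    have h := card_dvd_of_multiply 4 hpt
    rwa [Nat.card_eq_fintype_card, Fintype.card_embedding_eq, Fintype.card_fin, Fintype.card_fin] at h
  have hA8 : Nat.card (alternatingGroup (Fin 8)) = 20160 := alt_card (by norm_num) rfl
  by_contra hne
  have hnetop : H.subgroupOf (alternatingGroup (Fin 8)) ≠ ⊤ := fun h =>
    hne (le_antisymm hA (Subgroup.subgroupOf_eq_top.mp h))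
  obtain ⟨hd, hle⟩ := simple_index (by norm_num) _ hnetop
  have hmul := (H.subgroupOf (alternatingGroup (Fin 8))).card_mul_index
  rw [Nat.card_congr (Subgroup.subgroupOfEquivOfLe hA).toEquiv, hA8] at hmul
  rw [hA8] at hle
  obtain ⟨m, hm⟩ := h1680
  set i := (H.subgroupOf (alternatingGroup (Fin 8))).index
  rw [hm] at hmul
  have hmi : m * i = 12 := by
    have : 1680 * (m * i) = 1680 * 12 := by rw [← mul_assoc]; exact hmul
    omega
  have hm0 : m = 1 := by
    have hi : 7 < i := by
      by_contra hi
      push Not at hi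
      interval_cases hi' : i <;> simp [Nat.factorial] at hle <;> omega
    have hi12 : i ∣ 12 := Dvd.intro_left _ hmi
    have hi' : i = 12 := by
      have := Nat.le_of_dvd (by norm_num) hi12
      have key12 : ∀ n : Fin 13, 7 < n.val → n.val ∣ 12 → n.val = 12 := by decide +kernel
      exact key12 ⟨_, Nat.lt_succ_of_le this⟩ hi hi12
    rw [hi'] at hmi
    omega
  rw [hm0, mul_one] at hm
  -- no group of order 1680 inside `A₈`
  have : Fact (Nat.Prime 7) := ⟨by norm_num⟩
  obtain ⟨P⟩ := (inferInstance : Nonempty (Sylow 7 H))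
  have hP := Cfsg.Agent.Classical.Small.sylow_card_eq P (m := 240) hm (by norm_num)
  have hN := normalizer7 H.subtype H.subtype_injective
    (fun g => Perm.mem_alternatingGroup.mp (hA g.2)) (P : Subgroup H) hP.1
  have h7N : 7 ∣ Nat.card (Subgroup.normalizer ((P : Subgroup H) : Set H)) :=
    (dvd_of_eq hP.1.symm).trans (Subgroup.card_dvd_of_le Subgroup.le_normalizer)
  have hmulN := Subgroup.card_mul_index (Subgroup.normalizer ((P : Subgroup H) : Set H))
  have hn : Nat.card (Sylow 7 H) = (Subgroup.normalizer ((P : Subgroup H) : Set H)).index :=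
    P.card_eq_index_normalizer
  rw [← hn, hm] at hmulN
  have hmod := card_sylow_modEq_one 7 H
  obtain ⟨k, hk⟩ := h7N
  rw [hk] at hN hmulN
  have : k ∣ 3 := Nat.dvd_of_mul_dvd_mul_left (by norm_num : 0 < 7) (by simpa using hN)
  rcases (Nat.dvd_prime Nat.prime_three).mp this with rfl | rfl
  · rw [show Nat.card (Sylow 7 H) = 240 by omega] at hmod
    exact absurd hmod (by decide)
  · rw [show Nat.card (Sylow 7 H) = 80 by omega] at hmod
    exact absurd hmod (by decide)

/-- `GL₄(2)` has no simple subgroup of order 1344. -/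
theorem no_1344 {G : Type*} [Group G] [Finite G] [IsSimpleGroup G] (hG : Nat.card G = 1344)
    (j : G →* GL (Fin 4) (ZMod 2)) (hj : Function.Injective j) : False := by
  classical
  have hab : ∃ a b : G, a * b ≠ b * a := by
    by_contra hc
    push Not at hc
    have : Fact (Nat.Prime 2) := ⟨Nat.prime_two⟩
    obtain ⟨x, hx⟩ := exists_prime_orderOf_dvd_card' (G := G) 2 (by rw [hG]; norm_num)
    have hn : (Subgroup.zpowers x).Normal := ⟨fun a ha g => by
      rw [hc g a, mul_inv_cancel_right]; exact ha⟩
    rcases IsSimpleGroup.eq_bot_or_eq_top_of_normal _ hn with h | h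
    · rw [Subgroup.zpowers_eq_bot] at h; rw [h, orderOf_one] at hx; norm_num at hx
    · have := Nat.card_zpowers x
      rw [h, Subgroup.card_top, hG, hx] at this
      norm_num at this
  -- a permutation representation of small degree is trivial
  have hperm : ∀ (α : Type) [Fintype α], Fintype.card α ≤ 7 → ∀ f : G →* Perm α, f = 1 := by
    intro α _ hα f
    by_contra hne
    have hinj := (Cfsg.Agent.Classical.Small.perm_rep hab f hne).1
    have h1 := Subgroup.card_dvd_of_injective f hinj
    rw [hG, Nat.card_perm, Nat.card_eq_fintype_card] at h1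
    have h2 := h1.trans (Nat.factorial_dvd_factorial hα)
    norm_num [Nat.factorial] at h2
  let V := Fin 4 → ZMod 2
  let act : MulAction G V :=
    { smul := fun g v => (j g).1.mulVec v
      one_smul := fun v => by show (j 1).1.mulVec v = v; simp
      mul_smul := fun g h v => by
        show (j (g * h)).1.mulVec v = (j g).1.mulVec ((j h).1.mulVec v)
        simp [Matrix.mulVec_mulVec] }
  have hfaith : ∀ g : G, (∀ v : V, g • v = v) → g = 1 := by
    intro g h
    apply hj
    rw [map_one]
    apply Units.ext
    apply Matrix.toLin'.injective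
    apply LinearMap.ext
    intro v
    rw [Matrix.toLin'_apply, Units.val_one, Matrix.toLin'_one, LinearMap.id_apply]
    exact h v
  have horbit : ∀ v : V, Nat.card (MulAction.orbit G v) ≤ 7 → ∀ g : G, g • v = v := by
    intro v hv g
    have : Fintype (MulAction.orbit G v) := Fintype.ofFinite _
    have hf := hperm (MulAction.orbit G v) (by rwa [← Nat.card_eq_fintype_card])
      (MulAction.toPermHom G (MulAction.orbit G v))
    have := DFunLike.congr_fun (DFunLike.congr_fun hf g) ⟨v, MulAction.mem_orbit_self v⟩
    exact congrArg Subtype.val this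
  by_cases hfix : ∃ v : V, v ≠ 0 ∧ ∀ g : G, g • v = v
  · obtain ⟨v, hv0, hv⟩ := hfix
    -- classes modulo `v`
    let r : Setoid {x : V // x ≠ 0 ∧ x ≠ v} :=
      { r := fun x y => y.1 = x.1 ∨ y.1 = x.1 + v
        iseqv := ⟨fun x => Or.inl rfl, fun {x y} h => h.imp Eq.symm (fun h => by
          rw [h, add_assoc, show v + v = 0 from by funext i; exact CharTwo.add_self_eq_zero _, add_zero]),
          fun {x y z} h h' => by
            rcases h with h | h <;> rcases h' with h' | h'
            · exact Or.inl (h'.trans h)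
            · exact Or.inr (by rw [h', h])
            · exact Or.inr (by rw [h', h])
            · refine Or.inl ?_
              rw [h', h, add_assoc, show v + v = 0 from by funext i; exact CharTwo.add_self_eq_zero _,
                add_zero]⟩ }
    have hz : ∀ (g : G), g • (0 : V) = 0 := fun g => Matrix.mulVec_zero _
    have hadd : ∀ (g : G) (x y : V), g • (x + y) = g • x + g • y := fun g x y => Matrix.mulVec_add _ _ _
    have hinj : ∀ g : G, Function.Injective (fun x : V => g • x) := fun g => MulAction.injective g
    let act' : MulAction G (Quotient r) :=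
      { smul := fun g => Quotient.map (fun x => ⟨g • x.1, fun h => x.2.1 (hinj g (h.trans (hz g).symm)),
            fun h => x.2.2 (hinj g (h.trans (hv g).symm))⟩)
          (fun x y h => h.imp (fun h => congrArg (g • ·) h) (fun h => by
            show g • y.1 = g • x.1 + v
            rw [h, hadd, hv]))
        one_smul := fun q => Quotient.inductionOn q fun x =>
          congrArg (Quotient.mk r) (Subtype.ext (one_smul G x.1))
        mul_smul := fun g h q => Quotient.inductionOn q fun x =>
          congrArg (Quotient.mk r) (Subtype.ext (mul_smul g h x.1)) }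
    have : Fintype (Quotient r) := Fintype.ofFinite _
    have hc7 : Fintype.card (Quotient r) ≤ 7 := by
      have h2 : 2 * Nat.card (Quotient r) ≤ Nat.card {x : V // x ≠ 0 ∧ x ≠ v} := by
        let p : Quotient r × Fin 2 → {x : V // x ≠ 0 ∧ x ≠ v} := fun z =>
          if z.2 = 0 then z.1.out else ⟨z.1.out.1 + v,
            fun h => z.1.out.2.2 (by
              funext i
              have := congrFun h i
              exact CharTwo.add_eq_zero.mp this),
            fun h => z.1.out.2.1 (add_eq_right.mp h)⟩
        have hp : Function.Injective p := by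
          rintro ⟨a, s⟩ ⟨b, t⟩ h
          have hab : a = b := by
            rw [← Quotient.out_eq a, ← Quotient.out_eq b]
            apply Quotient.sound
            have h' := congrArg Subtype.val h
            simp only [p] at h'
            split_ifs at h' with hs ht ht
            · exact Or.inl h'.symm
            · exact Or.inr (by rw [h', add_assoc,
                show v + v = 0 from by funext i; exact CharTwo.add_self_eq_zero _, add_zero])
            · exact Or.inr h'.symm
            · exact Or.inl (add_right_cancel h').symm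
          subst hab
          have h' := congrArg Subtype.val h
          simp only [p] at h'
          refine Prod.ext rfl ?_
          fin_cases s <;> fin_cases t <;> simp at h' ⊢
          · exact hv0 h'
          · exact hv0 h'
        have := Nat.card_le_card_of_injective p hp
        rw [Nat.card_prod, Nat.card_fin] at this
        omega
      have h14 : Nat.card {x : V // x ≠ 0 ∧ x ≠ v} = 14 := by
        rw [Nat.card_eq_fintype_card, Fintype.card_subtype]
        have : (Finset.univ.filter fun x : V => x ≠ 0 ∧ x ≠ v) = Finset.univ \ {0, v} := by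
          ext x; simp
        rw [this, Finset.card_sdiff_of_subset (Finset.subset_univ _), Finset.card_pair (Ne.symm hv0),
          Finset.card_univ]
        simp [V]
      rw [← Nat.card_eq_fintype_card]
      omega
    have htriv := hperm (Quotient r) hc7 (MulAction.toPermHom G (Quotient r))
    have hmove : ∀ (g : G) (x : V), g • x = x ∨ g • x = x + v := by
      intro g x
      rcases eq_or_ne x 0 with rfl | hx0
      · exact Or.inl (hz g)
      rcases eq_or_ne x v with rfl | hxv
      · exact Or.inl (hv g)
      have := DFunLike.congr_fun (DFunLike.congr_fun htriv g) (Quotient.mk r ⟨x, hx0, hxv⟩)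
      have hrel := Quotient.exact (this : Quotient.mk r _ = _)
      rcases hrel with h | h
      · exact Or.inl h.symm
      · right
        have h' : x = g • x + v := h
        conv_rhs => rw [h', add_assoc, show v + v = 0 from by funext i; exact CharTwo.add_self_eq_zero _,
          add_zero]
    -- hence abelian
    obtain ⟨a, b, hne⟩ := hab
    apply hne
    suffices key : ∀ g h : G, ∀ x : V, g • (h • x) = h • (g • x) by
      have : (b * a)⁻¹ * (a * b) = 1 := hfaith _ fun x => by
        rw [mul_smul, mul_smul a b, key a b, ← mul_smul b a, inv_smul_smul]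
      exact (inv_mul_eq_one.mp this).symm
    intro g h x
    rcases hmove g x with e1 | e1 <;> rcases hmove h x with e2 | e2 <;>
      simp only [e1, e2, hadd, hv] <;> abel
  · push Not at hfix
    have hbig : ∀ v : V, v ≠ 0 → 8 ≤ Nat.card (MulAction.orbit G v) := by
      intro v hv
      by_contra hlt
      obtain ⟨g, hg⟩ := hfix v hv
      exact hg (horbit v (by omega) g)
    obtain ⟨v, hv⟩ : ∃ v : V, v ≠ 0 := ⟨1, by decide⟩
    have hsub : MulAction.orbit G v ⊆ {x | x ≠ 0} := by
      rintro _ ⟨g, rfl⟩ h
      exact hv (MulAction.injective g (h.trans (Matrix.mulVec_zero _).symm))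
    by_cases hall : MulAction.orbit G v = {x | x ≠ 0}
    · have := Fintype.ofFinite G
      have := Fintype.ofFinite (MulAction.orbit G v)
      have := Fintype.ofFinite (MulAction.stabilizer G v)
      have h := MulAction.card_orbit_mul_card_stabilizer_eq_card_group G v
      rw [← Nat.card_eq_fintype_card, ← Nat.card_eq_fintype_card, ← Nat.card_eq_fintype_card, hG] at h
      have h15 : Nat.card (MulAction.orbit G v) = 15 := by
        rw [hall, Nat.card_eq_fintype_card]
        change Fintype.card {x : Fin 4 → ZMod 2 // x ≠ 0} = 15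
        decide
      rw [h15] at h
      omega
    · obtain ⟨w, hw, hwn⟩ : ∃ w, w ≠ 0 ∧ w ∉ MulAction.orbit G v := by
        by_contra hcon
        push Not at hcon
        exact hall (Set.Subset.antisymm hsub hcon)
      have hd : Disjoint (MulAction.orbit G v) (MulAction.orbit G w) := by
        rw [Set.disjoint_left]
        intro x hx hx'
        exact hwn ((MulAction.orbit_eq_iff.mpr hx).symm.trans (MulAction.orbit_eq_iff.mpr hx') ▸
          MulAction.mem_orbit_self w)
      have h1 := hbig v hv
      have h2 := hbig w hw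
      have hsubw : MulAction.orbit G w ⊆ {x | x ≠ 0} := by
        rintro _ ⟨g, rfl⟩ h
        exact hw (MulAction.injective g (h.trans (Matrix.mulVec_zero _).symm))
      have hu := Set.ncard_le_ncard (Set.union_subset hsub hsubw) (Set.toFinite _)
      rw [Set.ncard_union_eq hd (Set.toFinite _) (Set.toFinite _), ← Nat.card_coe_set_eq,
        ← Nat.card_coe_set_eq] at hu
      have h15 : ({x : V | x ≠ 0}).ncard = 15 := by
        rw [← Nat.card_coe_set_eq, Nat.card_eq_fintype_card]
        change Fintype.card {x : Fin 4 → ZMod 2 // x ≠ 0} = 15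
        decide
      omega

theorem orbit_iff {G α : Type*} [Group G] [MulAction G α] (a : G) (x y : α) :
    a • y ∈ MulAction.orbit G x ↔ y ∈ MulAction.orbit G x := by
  rw [← MulAction.orbit_eq_iff, MulAction.orbit_smul, MulAction.orbit_eq_iff]

/-- The classification inside `A₈`. -/
theorem classify (hA : H ≤ alternatingGroup (Fin 8)) (hrf : RadFree H) (hne : H ≠ ⊥)
    (j : H →* GL (Fin 4) (ZMod 2)) (hj : Function.Injective j) :
    (∃ n : ℕ, 5 ≤ n ∧ n ≤ 8 ∧ Nonempty (H ≃* alternatingGroup (Fin n))) ∨
    Nonempty (H ≃* Perm (Fin 5)) ∨ Nonempty (H ≃* Perm (Fin 6)) ∨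
    Nonempty (H ≃* Matrix.ProjectiveSpecialLinearGroup (Fin 2) (ZMod 7)) := by
  classical
  have : Nontrivial H := (Subgroup.nontrivial_iff_ne_bot H).mpr hne
  have hd := card_dvd hA
  have h168 : Nat.card H = 168 →
      Nonempty (H ≃* Matrix.ProjectiveSpecialLinearGroup (Fin 2) (ZMod 7)) := by
    intro h
    have : IsSimpleGroup H := ⟨fun M hM => no_normal hA (a := 3) (by rw [h]; norm_num) hrf M hM⟩
    exact Cfsg.Agent.Classical.Small.simple_168 h
  obtain ⟨p, hp, hp5, hpd⟩ : ∃ p : ℕ, p.Prime ∧ (p = 5 ∨ p = 7) ∧ p ∣ Nat.card H := by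
    by_contra hcon
    push Not at hcon
    apply hrf.not_solvable
    refine solvable_two_primes 2 3 Nat.prime_two Nat.prime_three (a := 6) (b := 2) ?_
    have h5 : ¬ 5 ∣ Nat.card H := hcon 5 (by norm_num) (Or.inl rfl)
    have h7 : ¬ 7 ∣ Nat.card H := hcon 7 (by norm_num) (Or.inr rfl)
    have hd' : Nat.card H ∣ 5 * (7 * (2 ^ 6 * 3 ^ 2)) := (by rw [show 5 * (7 * (2 ^ 6 * 3 ^ 2)) = 20160 by norm_num]; exact hd)
    exact ((Nat.Prime.coprime_iff_not_dvd (by norm_num)).mpr h7).symm.dvd_of_dvd_mul_left
      (((Nat.Prime.coprime_iff_not_dvd (by norm_num)).mpr h5).symm.dvd_of_dvd_mul_left hd')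
  have := Fact.mk hp
  obtain ⟨g, hg⟩ := exists_prime_orderOf_dvd_card' (G := H) p hpd
  obtain ⟨x, hx⟩ : ∃ x : Fin 8, g • x ≠ x := by
    by_contra hall
    push Not at hall
    have : g = 1 := Subtype.ext (Perm.ext hall)
    rw [this, orderOf_one] at hg
    exact hp.one_lt.ne hg
  have hOk : p ≤ Nat.card (MulAction.orbit H x) := by
    have hsub : MulAction.orbit (Subgroup.zpowers g) x ⊆ MulAction.orbit H x := by
      rintro _ ⟨a, rfl⟩; exact ⟨a.1, rfl⟩
    have h1 := MulAction.card_orbit_mul_card_stabilizer_eq_card_group (Subgroup.zpowers g) x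
    rw [← Nat.card_eq_fintype_card, ← Nat.card_eq_fintype_card, ← Nat.card_eq_fintype_card,
      Nat.card_zpowers, hg] at h1
    have h2 : Nat.card (MulAction.orbit (Subgroup.zpowers g) x) = p := by
      rcases (Nat.dvd_prime hp).mp (Dvd.intro _ h1) with h | h
      · exfalso
        have := (Nat.card_eq_one_iff_unique.mp h).1
        exact hx (congrArg Subtype.val (this.elim
          ⟨g • x, ⟨⟨g, Subgroup.mem_zpowers g⟩, rfl⟩⟩ ⟨x, MulAction.mem_orbit_self x⟩))
      · exact h
    rw [← h2, Nat.card_coe_set_eq, Nat.card_coe_set_eq]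
    exact Set.ncard_le_ncard hsub (Set.toFinite _)
  let ρ := MulAction.toPermHom H (MulAction.orbit H x)
  set k := Nat.card (MulAction.orbit H x) with hk
  have hk5 : 5 ≤ k := by rcases hp5 with rfl | rfl <;> omega
  have hk8 : k ≤ 8 := by
    rw [hk, Nat.card_coe_set_eq]
    exact (Set.ncard_le_card _).trans (by simp)
  have hρ : Function.Injective ρ := by
    rw [← MonoidHom.ker_eq_bot_iff]
    apply hrf _ inferInstance
    let r : ρ.ker →* Perm {y : Fin 8 // y ∉ MulAction.orbit H x} :=
      { toFun := fun a => ((a : H) : Perm (Fin 8)).subtypePerm (fun y =>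
          not_congr (orbit_iff (a : H) x y))
        map_one' := by ext; rfl
        map_mul' := fun a b => by ext; rfl }
    refine solvable_small (α := {y : Fin 8 // y ∉ MulAction.orbit H x}) ?_ r ?_
    · rw [Nat.card_eq_fintype_card, Fintype.card_subtype_compl, Fintype.card_fin]
      rw [← Nat.card_eq_fintype_card]
      change 8 - k ≤ 4
      omega
    · intro a b hab
      apply Subtype.ext
      apply Subtype.ext
      apply Equiv.ext
      intro y
      by_cases hy : y ∈ MulAction.orbit H x
      · have ha := DFunLike.congr_fun (MonoidHom.mem_ker.mp a.2) ⟨y, hy⟩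
        have hb := DFunLike.congr_fun (MonoidHom.mem_ker.mp b.2) ⟨y, hy⟩
        exact (congrArg Subtype.val ha).trans (congrArg Subtype.val hb).symm
      · exact congrArg Subtype.val (DFunLike.congr_fun hab ⟨y, hy⟩)
  let e : MulAction.orbit H x ≃ Fin k := Finite.equivFinOfCardEq hk.symm
  let ρ' : H →* Perm (Fin k) := e.permCongrHom.toMonoidHom.comp ρ
  have hρ' : Function.Injective ρ' := e.permCongrHom.injective.comp hρ
  let eR : H ≃* ρ'.range := MonoidHom.ofInjective hρ'
  have hrf' : RadFree ρ'.range := hrf.of_equiv eR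
  rcases (show k = 5 ∨ k = 6 ∨ k = 7 ∨ k = 8 by omega) with hk' | hk' | hk' | hk'
  · have key : ∀ (m : ℕ) (K : Subgroup (Perm (Fin m))), m = 5 → ¬ Group.IsSolvable K →
        Nonempty (K ≃* alternatingGroup (Fin 5)) ∨ Nonempty (K ≃* Perm (Fin 5)) := by
      rintro _ K rfl hK; exact perm_degree5 K hK
    rcases key k ρ'.range hk' (fun hs => hrf.not_solvable
      (Group.isSolvable_of_isSolvable_injective (f := eR.toMonoidHom) eR.injective)) with ⟨⟨i⟩⟩ | ⟨⟨i⟩⟩
    · exact Or.inl ⟨5, le_rfl, by norm_num, ⟨eR.trans i⟩⟩
    · exact Or.inr (Or.inl ⟨eR.trans i⟩)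
  · have key : ∀ (m : ℕ) (K : Subgroup (Perm (Fin m))), m = 6 → RadFree K → K ≠ ⊥ →
        (∃ n : ℕ, 5 ≤ n ∧ n ≤ 8 ∧ Nonempty (K ≃* alternatingGroup (Fin n))) ∨
          Nonempty (K ≃* Perm (Fin 5)) ∨ Nonempty (K ≃* Perm (Fin 6)) := by
      rintro _ K rfl h h'; exact perm_degree6 K h h'
    have hne' : ρ'.range ≠ ⊥ := by
      rw [← Subgroup.nontrivial_iff_ne_bot]; exact eR.symm.toEquiv.nontrivial
    rcases key k ρ'.range hk' hrf' hne' with ⟨n, h1, h2, ⟨i⟩⟩ | ⟨⟨i⟩⟩ | ⟨⟨i⟩⟩
    · exact Or.inl ⟨n, h1, h2, ⟨eR.trans i⟩⟩
    · exact Or.inr (Or.inl ⟨eR.trans i⟩)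
    · exact Or.inr (Or.inr (Or.inl ⟨eR.trans i⟩))
  · have : Fact (Nat.Prime 7) := ⟨by norm_num⟩
    have h7 : 7 ∣ Nat.card H := by
      have h1 := MulAction.card_orbit_mul_card_stabilizer_eq_card_group H x
      rw [← Nat.card_eq_fintype_card, ← Nat.card_eq_fintype_card, ← Nat.card_eq_fintype_card,
        ← hk, hk'] at h1
      exact Dvd.intro _ h1
    have heven : ∀ a : H, Perm.sign (ρ' a) = 1 := by
      intro a
      show Perm.sign (e.permCongr (ρ a)) = 1
      rw [Perm.sign_permCongr]
      have hcompl : Nat.card {y : Fin 8 // y ∉ MulAction.orbit H x} = 1 := by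
        rw [Nat.card_eq_fintype_card, Fintype.card_subtype_compl, Fintype.card_fin,
          ← Nat.card_eq_fintype_card]
        change 8 - k = 1
        omega
      have hh : ∀ y, (a : Perm (Fin 8)) y ≠ y → y ∈ MulAction.orbit H x := by
        intro y hy
        by_contra hyn
        have hss := (Nat.card_eq_one_iff_unique.mp hcompl).1
        have hyn' : (a : Perm (Fin 8)) y ∉ MulAction.orbit H x :=
          fun h => hyn ((orbit_iff a x y).mp h)
        exact hy (congrArg Subtype.val (hss.elim ⟨_, hyn'⟩ ⟨y, hyn⟩))
      have := Perm.sign_subtypePerm (a : Perm (Fin 8))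
        (fun y => orbit_iff a x y) hh
      rw [show (ρ a) = (a : Perm (Fin 8)).subtypePerm (fun y => orbit_iff a x y)
        from Equiv.ext fun y => rfl, this]
      exact Perm.mem_alternatingGroup.mp (hA a.2)
    have key : ∀ (m : ℕ) (K : Subgroup (Perm (Fin m))), m = 7 → (∀ b ∈ K, Perm.sign b = 1) →
        RadFree K → 7 ∣ Nat.card K → MulAction.IsPretransitive K (Fin m) →
        (∀ P : Sylow 7 K, Nat.card (Subgroup.normalizer ((P : Subgroup K) : Set K)) ∣ 21) →
        (∃ n : ℕ, 5 ≤ n ∧ n ≤ 8 ∧ Nonempty (K ≃* alternatingGroup (Fin n))) ∨ Nat.card K = 168 := by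
      rintro _ K rfl hs h h7 htr hn
      refine perm_degree7 K (fun b hb => Perm.mem_alternatingGroup.mpr (hs b hb)) h h7 hn
        fun M hM hM7 => ?_
      have hprim : MulAction.IsPreprimitive K (Fin 7) :=
        MulAction.IsPreprimitive.of_prime_card (by simpa using (by norm_num : Nat.Prime 7))
      by_contra hMne
      have hfix : MulAction.fixedPoints M (Fin 7) ≠ Set.univ := by
        intro hu
        apply hMne
        rw [Subgroup.eq_bot_iff_forall]
        intro m hm
        apply Subtype.ext
        apply Equiv.ext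
        intro y
        have hy : y ∈ MulAction.fixedPoints M (Fin 7) := hu ▸ Set.mem_univ y
        exact hy ⟨m, hm⟩
      have htrM : MulAction.IsPretransitive M (Fin 7) := MulAction.IsQuasiPreprimitive.isPretransitive_of_normal hfix
      have h1 := MulAction.card_orbit_mul_card_stabilizer_eq_card_group M (0 : Fin 7)
      rw [← Nat.card_eq_fintype_card, ← Nat.card_eq_fintype_card, ← Nat.card_eq_fintype_card,
        MulAction.orbit_eq_univ, Nat.card_univ, Nat.card_fin] at h1
      exact hM7 (Dvd.intro _ h1)
    have htr : MulAction.IsPretransitive ρ'.range (Fin k) := by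
      constructor
      intro a b
      obtain ⟨c, hc⟩ := MulAction.exists_smul_eq H (e.symm a) (e.symm b)
      refine ⟨⟨ρ' c, c, rfl⟩, ?_⟩
      show e (c • e.symm a) = b
      rw [hc, e.apply_symm_apply]
    have hcR : Nat.card ρ'.range = Nat.card H := (Nat.card_congr eR.toEquiv).symm
    have hnR : ∀ P : Sylow 7 ρ'.range,
        Nat.card (Subgroup.normalizer ((P : Subgroup ρ'.range) : Set ρ'.range)) ∣ 21 := by
      intro P
      obtain ⟨i, hi⟩ := IsPGroup.iff_card.mp P.2
      have hPd : Nat.card P ∣ 20160 :=
        (Subgroup.card_subgroup_dvd_card _).trans (hcR ▸ hd)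
      have hi1 : i = 1 := by
        rcases i with _ | _ | i
        · have := P.dvd_card_of_dvd_card (hcR ▸ h7)
          rw [hi] at this
          simp at this
        · rfl
        · rw [hi] at hPd
          have h49 : 7 ^ 2 ∣ 20160 := (pow_dvd_pow 7 (by omega)).trans hPd
          norm_num at h49
      subst hi1
      rw [pow_one] at hi
      exact normalizer7 (H.subtype.comp eR.symm.toMonoidHom)
        (H.subtype_injective.comp eR.symm.injective)
        (fun a => Perm.mem_alternatingGroup.mp (hA (eR.symm a).2)) _ hi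
    rcases key k ρ'.range hk' (by rintro _ ⟨a, rfl⟩; exact heven a) hrf' (hcR ▸ h7) htr hnR with
      ⟨n, h1, h2, ⟨i⟩⟩ | h
    · exact Or.inl ⟨n, h1, h2, ⟨eR.trans i⟩⟩
    · exact Or.inr (Or.inr (Or.inr (h168 (hcR ▸ h))))
  · have hou : MulAction.orbit H x = Set.univ :=
      Set.eq_of_subset_of_ncard_le (Set.subset_univ _)
        (by rw [Set.ncard_univ, Nat.card_fin, ← Nat.card_coe_set_eq, ← hk, hk']) (Set.toFinite _)
    have : MulAction.IsPretransitive H (Fin 8) :=
      MulAction.isPretransitive_iff_base x |>.mpr fun y => by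
        have : y ∈ MulAction.orbit H x := hou ▸ Set.mem_univ y
        exact this
    by_cases h5 : 5 ∣ Nat.card H
    · exact Or.inl ⟨8, by norm_num, le_rfl, ⟨MulEquiv.subgroupCongr (case_five hA h5)⟩⟩
    · have : Fact (Nat.Prime 7) := ⟨by norm_num⟩
      have h7 : 7 ∣ Nat.card H := by
        rcases hp5 with rfl | rfl
        · exact absurd hpd h5
        · exact hpd
      obtain ⟨m, hm⟩ := h7
      have hd' : Nat.card H ∣ 5 * (7 * (2 ^ 6 * 3 ^ 2)) := (by rw [show 5 * (7 * (2 ^ 6 * 3 ^ 2)) = 20160 by norm_num]; exact hd)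
      have hd7 := ((Nat.Prime.coprime_iff_not_dvd (by norm_num)).mpr h5).symm.dvd_of_dvd_mul_left hd'
      rw [hm] at hd7
      have hm576 : m ∣ 2 ^ 6 * 3 ^ 2 := Nat.dvd_of_mul_dvd_mul_left (by norm_num) hd7
      have hnd : ¬ 7 ∣ m := fun h => by
        have := h.trans hm576
        norm_num at this
      obtain ⟨P⟩ := (inferInstance : Nonempty (Sylow 7 H))
      have hP := (Cfsg.Agent.Classical.Small.sylow_card_eq P hm hnd).1
      have hN21 := normalizer7 H.subtype H.subtype_injective
        (fun a => Perm.mem_alternatingGroup.mp (hA a.2)) (P : Subgroup H) hP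
      have hN7 := card_normalizer_ne hrf P hP (fun M hM hM7 => by
        refine solvable_two_primes 2 3 Nat.prime_two Nat.prime_three (a := 6) (b := 2) ?_
        exact ((Nat.Prime.coprime_iff_not_dvd (by norm_num)).mpr hM7).symm.dvd_of_dvd_mul_left
          (M.card_subgroup_dvd_card.trans (hm ▸ hd7)))
        (fun h => hrf.not_solvable (solvable_two_primes 7 7 (by norm_num) (by norm_num) (a := 1) (b := 0)
          (by rw [h]; norm_num)))
      have h7N : 7 ∣ Nat.card (Subgroup.normalizer ((P : Subgroup H) : Set H)) :=
        (dvd_of_eq hP.symm).trans (Subgroup.card_dvd_of_le Subgroup.le_normalizer)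
      have hN : Nat.card (Subgroup.normalizer ((P : Subgroup H) : Set H)) = 21 := by
        obtain ⟨c, hc⟩ := h7N
        rw [hc] at hN21 hN7 ⊢
        have : c ∣ 3 := Nat.dvd_of_mul_dvd_mul_left (by norm_num : 0 < 7) (by simpa using hN21)
        rcases (Nat.dvd_prime Nat.prime_three).mp this with rfl | rfl
        · norm_num at hN7
        · rfl
      have hmul := Subgroup.card_mul_index (Subgroup.normalizer ((P : Subgroup H) : Set H))
      have hn : Nat.card (Sylow 7 H) = (Subgroup.normalizer ((P : Subgroup H) : Set H)).index :=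
        P.card_eq_index_normalizer
      rw [hN, ← hn] at hmul
      have hn192 : Nat.card (Sylow 7 H) ∣ 192 := by
        have : 21 * Nat.card (Sylow 7 H) ∣ 21 * 192 := by
          rw [hmul]; exact hm ▸ hd7
        exact Nat.dvd_of_mul_dvd_mul_left (by norm_num) this
      have key : ∀ n : Fin 193, n.val ∣ 192 → n.val % 7 = 1 → n.val = 1 ∨ n.val = 8 ∨ n.val = 64 := by
        decide +kernel
      rcases key ⟨_, Nat.lt_succ_of_le (Nat.le_of_dvd (by norm_num) hn192)⟩ hn192
        (card_sylow_modEq_one 7 H) with h | h | h <;> simp only at h <;> rw [h] at hmul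
      · exact absurd (solvable_two_primes 3 7 Nat.prime_three (by norm_num) (a := 1) (b := 1)
          (by rw [← hmul]; norm_num)) hrf.not_solvable
      · exact Or.inr (Or.inr (Or.inr (h168 hmul.symm)))
      · exfalso
        have : IsSimpleGroup H := ⟨fun M hM => no_normal hA (a := 6) (by rw [← hmul]; norm_num) hrf M hM⟩
        exact no_1344 (G := H) hmul.symm j hj

end Cfsg.Agent.SubA8
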