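import Cfsg.Agent.SubA8.Degree

/-!
A non-solvable subgroup of `A₈` with an abelian normal subgroup of odd order.
-/

set_option autoImplicit false
set_option linter.unusedSectionVars false
set_option linter.style.haveILetI false
set_option maxHeartbeats 400000

namespace Cfsg.Agent.SubA8

open Equiv
open scoped commutatorElement

theorem perfect_hom_eq_one {G H : Type*} [Group G] [Group H] {P : Subgroup G} (hP : ⁅P, P⁆ = P) (φ : ↥P →* H)
    [Group.IsSolvable H] (x : ↥P) : φ x = 1 := by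
  have htop : ⁅(⊤ : Subgroup ↥P), (⊤ : Subgroup ↥P)⁆ = (⊤ : Subgroup ↥P) := by
    refine Subgroup.map_injective P.subtype_injective ?_
    rw [Subgroup.map_commutator, ← MonoidHom.range_eq_map, Subgroup.range_subtype, hP]
  have key : ∀ n, φ.range ≤ derivedSeries H n := by
    intro n
    induction n with
    | zero => simp
    | succ n ih =>
      rw [derivedSeries_succ]
      calc φ.range = (⁅(⊤ : Subgroup ↥P), (⊤ : Subgroup ↥P)⁆).map φ := by rw [htop, MonoidHom.range_eq_map]
        _ = ⁅φ.range, φ.range⁆ := by rw [Subgroup.map_commutator, MonoidHom.range_eq_map]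
        _ ≤ _ := Subgroup.commutator_mono ih ih
  obtain ⟨n, hn⟩ := Group.IsSolvable.solvable (G := H)
  have := key n ⟨x, rfl⟩
  rwa [hn, Subgroup.mem_bot] at this

theorem exists_perfect {G : Type*} [Group G] [Finite G] (h : ¬ Group.IsSolvable G) :
    ∃ P : Subgroup G, P ≠ ⊥ ∧ ⁅P, P⁆ = P := by
  classical
  obtain ⟨n, hn⟩ : ∃ n, ∀ m, Nat.card (derivedSeries G n) ≤ Nat.card (derivedSeries G m) :=
    ⟨Function.argmin (fun n => Nat.card (derivedSeries G n)), fun m => Function.argmin_le (fun n => Nat.card (derivedSeries G n)) m⟩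
  refine ⟨derivedSeries G n, fun e => h ⟨⟨n, e⟩⟩, ?_⟩
  have hle : ⁅derivedSeries G n, derivedSeries G n⁆ ≤ derivedSeries G n := Subgroup.commutator_le_right _ _
  exact Subgroup.eq_of_le_of_card_ge hle (hn (n + 1))

theorem isSolvable_comm {G : Type*} [Group G] (h : ∀ a b : G, a * b = b * a) : Group.IsSolvable G := by
  refine ⟨⟨1, ?_⟩⟩
  rw [derivedSeries_one, commutator_def, Subgroup.commutator_eq_bot_iff_le_centralizer]
  exact fun x _ => Subgroup.mem_centralizer_iff.2 fun y _ => h y x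

/-- the orbit of a point under a subgroup of a permutation group, as a finite set -/
noncomputable def orb {Q : Subgroup (Perm (Fin 8))} (R : Subgroup Q) (x : Fin 8) : Finset (Fin 8) := by
  classical exact Finset.univ.filter fun y => ∃ r : R, (r : Perm (Fin 8)) x = y

theorem mem_orb {Q : Subgroup (Perm (Fin 8))} {R : Subgroup Q} {x y : Fin 8} :
    y ∈ orb R x ↔ ∃ r : R, (r : Perm (Fin 8)) x = y := by
  classical simp [orb]

variable {Q : Subgroup (Perm (Fin 8))} {R : Subgroup Q} [R.Normal]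

theorem orb_map (g : Q) (x : Fin 8) :
    (orb R x).map (g : Perm (Fin 8)).toEmbedding = orb R ((g : Perm (Fin 8)) x) := by
  ext y
  rw [Finset.mem_map, mem_orb]
  constructor
  · rintro ⟨z, hz, rfl⟩
    obtain ⟨r, rfl⟩ := mem_orb.1 hz
    exact ⟨⟨g * r * g⁻¹, ‹R.Normal›.conj_mem _ r.2 g⟩, by simp⟩
  · rintro ⟨r, rfl⟩
    refine ⟨(((g⁻¹ * r * g : Q)) : Perm (Fin 8)) x, mem_orb.2 ⟨⟨g⁻¹ * r * g, ?_⟩, rfl⟩, by simp⟩
    simpa using ‹R.Normal›.conj_mem _ r.2 g⁻¹

theorem orb_eq {x y : Fin 8} (h : y ∈ orb R x) : orb R y = orb R x := by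
  obtain ⟨r, rfl⟩ := mem_orb.1 h
  ext z
  rw [mem_orb, mem_orb]
  constructor
  · rintro ⟨s, rfl⟩; exact ⟨s * r, rfl⟩
  · rintro ⟨s, rfl⟩; exact ⟨s * r⁻¹, by simp⟩

theorem orb_self (x : Fin 8) : x ∈ orb R x := mem_orb.2 ⟨1, rfl⟩

theorem abelian_normal (hA : Q ≤ alternatingGroup (Fin 8)) (hns : ¬ Group.IsSolvable Q)
    (hcomm : IsMulCommutative R) (hne : R ≠ ⊥) (hodd : Odd (Nat.card R)) :
    Nat.card R = 3 ∧ (Nonempty (Q ⧸ R ≃* alternatingGroup (Fin 5)) ∨ Nonempty (Q ⧸ R ≃* Perm (Fin 5))) := by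
  classical
  obtain ⟨P, hP0, hPP⟩ := exists_perfect hns
  have hRc : ∀ r s : R, r * s = s * r := fun r s => hcomm.1.comm r s
  let M : Finset (Fin 8) := Finset.univ.filter fun x => ∃ r : R, (r : Perm (Fin 8)) x ≠ x
  have hMmem : ∀ x, x ∈ M ↔ ∃ r : R, (r : Perm (Fin 8)) x ≠ x := fun x => by simp [M]
  have hMQ : ∀ (g : Q) x, (g : Perm (Fin 8)) x ∈ M ↔ x ∈ M := by
    have key : ∀ (g : Q) x, x ∈ M → (g : Perm (Fin 8)) x ∈ M := by
      intro g x hx
      obtain ⟨r, hr⟩ := (hMmem x).1 hx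
      exact (hMmem _).2 ⟨⟨g * r * g⁻¹, ‹R.Normal›.conj_mem _ r.2 g⟩, by simpa using hr⟩
    exact fun g x => ⟨fun h => by simpa using key g⁻¹ _ h, key g x⟩
  have horbM : ∀ x ∈ M, orb R x ⊆ M := by
    intro x hx y hy
    obtain ⟨r, rfl⟩ := mem_orb.1 hy
    exact (hMQ (r : Q) x).2 hx
  -- orbit sizes
  have horb : ∀ x ∈ M, (orb R x).card = 3 ∨ (orb R x).card = 5 ∨ (orb R x).card = 7 := by
    intro x hx
    have hd : (orb R x).card ∣ Nat.card R := by
      let S : Subgroup R := (MulAction.stabilizer (Perm (Fin 8)) x).comap (Q.subtype.comp R.subtype)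
      have : Nat.card (R ⧸ S) = Nat.card ↥(orb R x) := by
        refine Nat.card_congr (Equiv.ofBijective
          (fun q => Quotient.liftOn' q (fun r : R => (⟨(r : Perm (Fin 8)) x, mem_orb.2 ⟨r, rfl⟩⟩ : ↥(orb R x)))
            fun r s h => Subtype.ext ?_) ⟨?_, ?_⟩)
        · have h' : ((((r⁻¹ * s : R)) : Q) : Perm (Fin 8)) x = x := QuotientGroup.leftRel_apply.1 h
          show (r : Perm (Fin 8)) x = (s : Perm (Fin 8)) x
          conv_lhs => rw [← h']
          simp
        · intro p q h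
          obtain ⟨r, rfl⟩ := QuotientGroup.mk_surjective p
          obtain ⟨s, rfl⟩ := QuotientGroup.mk_surjective q
          have h' : (r : Perm (Fin 8)) x = (s : Perm (Fin 8)) x := congrArg Subtype.val h
          refine QuotientGroup.eq.2 ?_
          show ((((r⁻¹ * s : R)) : Q) : Perm (Fin 8)) x = x
          simp [← h']
        · rintro ⟨y, hy⟩
          obtain ⟨r, rfl⟩ := mem_orb.1 hy
          exact ⟨QuotientGroup.mk r, rfl⟩
      rw [← Nat.card_eq_finsetCard, ← this]
      exact S.card_quotient_dvd_card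
    have h1 : (orb R x).card ≠ 1 := by
      intro h
      obtain ⟨r, hr⟩ := (hMmem x).1 hx
      obtain ⟨z, hz⟩ := Finset.card_eq_one.1 h
      have e1 : (r : Perm (Fin 8)) x ∈ orb R x := mem_orb.2 ⟨r, rfl⟩
      have e2 := orb_self (R := R) x
      rw [hz, Finset.mem_singleton] at e1 e2
      exact hr (e1.trans e2.symm)
    have h8 : (orb R x).card ≤ 8 := (Finset.card_le_univ _).trans (by simp)
    obtain ⟨k, hk⟩ := (hodd.of_dvd_nat hd)
    omega
  -- the orbits in `M`
  let T : Finset (Finset (Fin 8)) := M.image (orb R)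
  have hsum : 3 * T.card ≤ M.card := by
    rw [Finset.card_eq_sum_card_image (orb R) M, mul_comm, ← smul_eq_mul, ← Finset.sum_const]
    refine Finset.sum_le_sum fun o ho => ?_
    obtain ⟨x, hx, rfl⟩ := Finset.mem_image.1 ho
    refine le_trans ?_ (Finset.card_le_card (s := orb R x) fun y hy => Finset.mem_filter.2 ⟨horbM x hx hy, orb_eq hy⟩)
    rcases horb x hx with h | h | h <;> omega
  have hM8 : M.card ≤ 8 := (Finset.card_le_univ _).trans (by simp)
  have hTQ : ∀ (g : Q), ∀ o ∈ T, o.map (g : Perm (Fin 8)).toEmbedding ∈ T := by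
    intro g o ho
    obtain ⟨x, hx, rfl⟩ := Finset.mem_image.1 ho
    rw [orb_map]
    exact Finset.mem_image.2 ⟨_, (hMQ g x).2 hx, rfl⟩
  letI : MulAction Q ↥T :=
    { smul := fun g o => ⟨o.1.map (g : Perm (Fin 8)).toEmbedding, hTQ g o.1 o.2⟩
      one_smul := fun o => Subtype.ext (by
        show o.1.map ((1 : Q) : Perm (Fin 8)).toEmbedding = o.1
        ext y; simp [Perm.one_def])
      mul_smul := fun g h o => Subtype.ext (by
        show o.1.map ((g * h : Q) : Perm (Fin 8)).toEmbedding =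
          (o.1.map (h : Perm (Fin 8)).toEmbedding).map (g : Perm (Fin 8)).toEmbedding
        rw [Finset.map_map]; rfl) }
  haveI : Group.IsSolvable (Perm ↥T) := by
    refine solvable_small (α := ↥T) (G := Perm ↥T) ?_ (MonoidHom.id _) Function.injective_id
    rw [Nat.card_eq_finsetCard]
    omega
  have horbP : ∀ (p : ↥P), ∀ x ∈ M, orb R ((((p : Q)) : Perm (Fin 8)) x) = orb R x := by
    intro p x hx
    have h1 : ((p : Q)) • (⟨orb R x, Finset.mem_image.2 ⟨x, hx, rfl⟩⟩ : ↥T) = ⟨orb R x, Finset.mem_image.2 ⟨x, hx, rfl⟩⟩ := by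
      have h := perfect_hom_eq_one hPP ((MulAction.toPermHom Q ↥T).comp P.subtype) p
      exact Equiv.ext_iff.1 h _
    rw [← orb_map]
    exact congrArg Subtype.val h1
  -- `P` fixes every moved point
  have hfixM : ∀ (p : ↥P), ∀ x ∈ M, (((p : Q)) : Perm (Fin 8)) x = x := by
    intro p₀ x hx
    set O := orb R x with hO
    let S : Subgroup Q :=
      { carrier := {g | ∀ y, (g : Perm (Fin 8)) y ∈ O ↔ y ∈ O}
        one_mem' := fun y => Iff.rfl
        mul_mem' := fun {g h} hg hh y => (hg ((h : Perm (Fin 8)) y)).trans (hh y)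
        inv_mem' := fun {g} hg y => by simpa using (hg (((g⁻¹ : Q) : Perm (Fin 8)) y)).symm }
    have hS : ∀ g : Q, g ∈ S ↔ ∀ y, (g : Perm (Fin 8)) y ∈ O ↔ y ∈ O := fun g => Iff.rfl
    have hRS : R ≤ S := fun g hg => (hS g).2 fun y => by
      constructor
      · intro h
        have := orb_eq h
        rw [hO, ← this, orb_eq (mem_orb.2 ⟨⟨g, hg⟩, rfl⟩ : _ ∈ orb R y)]
        exact orb_self (R := R) y
      · intro h
        rw [hO, ← orb_eq h]
        exact mem_orb.2 ⟨⟨g, hg⟩, rfl⟩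
    have hPS : P ≤ S := fun g hg => (hS g).2 fun y => by
      have hgo := horbP ⟨g, hg⟩
      constructor
      · intro h
        have hy : y ∈ M := (hMQ g y).1 (horbM x hx h)
        rw [hO, ← orb_eq h, hgo y hy]
        exact orb_self (R := R) y
      · intro h
        rw [hO, ← orb_eq h, ← hgo y (horbM x hx h)]
        exact orb_self (R := R) _
    let ρ : ↥S →* Perm {y // y ∈ O} :=
      { toFun := fun g => ((g : Q) : Perm (Fin 8)).subtypePerm ((hS g).1 g.2)
        map_one' := by ext; rfl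
        map_mul' := fun a b => by ext; rfl }
    let Rb : Subgroup (Perm {y // y ∈ O}) := (R.subgroupOf S).map ρ
    let x₀ : {y // y ∈ O} := ⟨x, orb_self (R := R) x⟩
    have htrans : ∀ y : {y // y ∈ O}, ∃ τ ∈ Rb, τ x₀ = y := by
      rintro ⟨y, hy⟩
      obtain ⟨r, rfl⟩ := mem_orb.1 hy
      exact ⟨ρ ⟨r, hRS r.2⟩, ⟨⟨r, hRS r.2⟩, r.2, rfl⟩, Subtype.ext rfl⟩
    have hcb : ∀ τ ∈ Rb, ∀ τ' ∈ Rb, τ * τ' = τ' * τ := by
      rintro _ ⟨a, ha, rfl⟩ _ ⟨b, hb, rfl⟩
      rw [← map_mul, ← map_mul]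
      exact congrArg ρ (Subtype.ext (congrArg Subtype.val (hRc ⟨a, ha⟩ ⟨b, hb⟩) :))
    have hreg : ∀ σ : Perm {y // y ∈ O}, (∀ τ ∈ Rb, τ * σ = σ * τ) → σ ∈ Rb := by
      intro σ hσ
      obtain ⟨τ, hτ, e⟩ := htrans (σ x₀)
      convert hτ
      refine Equiv.ext fun y => ?_
      obtain ⟨μ, hμ, rfl⟩ := htrans y
      rw [← Perm.mul_apply, ← hσ μ hμ, Perm.mul_apply, ← e, ← Perm.mul_apply, hcb _ hμ _ hτ, Perm.mul_apply]
    have hcard : Nat.card ↥Rb = O.card := by
      rw [← Nat.card_eq_finsetCard]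
      refine Nat.card_congr (Equiv.ofBijective (fun τ => (τ : Perm _) x₀) ⟨fun τ τ' e => ?_, fun y => ?_⟩)
      · refine Subtype.ext (Equiv.ext fun y => ?_)
        obtain ⟨μ, hμ, rfl⟩ := htrans y
        change (τ : Perm _) x₀ = (τ' : Perm _) x₀ at e
        rw [← Perm.mul_apply, hcb _ τ.2 _ hμ, Perm.mul_apply, e, ← Perm.mul_apply, hcb _ hμ _ τ'.2, Perm.mul_apply]
      · obtain ⟨τ, hτ, e⟩ := htrans y
        exact ⟨⟨τ, hτ⟩, e⟩
    haveI : Fact (O.card).Prime := ⟨by rcases horb x hx with h | h | h <;> rw [hO, h] <;> norm_num⟩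
    haveI : IsCyclic ↥Rb := isCyclic_of_prime_card hcard
    have hnorm : ∀ g : ↥S, ρ g ∈ Subgroup.normalizer (Rb : Set (Perm {y // y ∈ O})) := by
      intro g
      rw [Subgroup.mem_normalizer_iff]
      intro τ
      constructor
      · rintro ⟨a, ha, rfl⟩
        exact ⟨g * a * g⁻¹, ‹R.Normal›.conj_mem _ ha g, by simp⟩
      · rintro ⟨a, ha, e⟩
        refine ⟨g⁻¹ * a * g, Subgroup.mem_subgroupOf.2 (by
          simpa [mul_assoc] using ‹R.Normal›.conj_mem _ ha ((g : Q)⁻¹)), ?_⟩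
        rw [map_mul, map_mul, map_inv, e]
        group
    let ψ : ↥P →* MulAut ↥Rb := (Subgroup.normalizerMonoidHom Rb).comp
      ((ρ.comp (Subgroup.inclusion hPS)).codRestrict _ fun p => hnorm _)
    haveI : Group.IsSolvable (MulAut ↥Rb) := isSolvable_comm fun a b =>
      (IsCyclic.mulAutMulEquiv ↥Rb).injective (by rw [map_mul, map_mul, mul_comm])
    have hin : ∀ p : ↥P, ρ (Subgroup.inclusion hPS p) ∈ Rb := by
      intro p
      have h1 : ψ p = 1 := perfect_hom_eq_one hPP ψ p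
      have h2 : ((ρ.comp (Subgroup.inclusion hPS)).codRestrict _ fun p => hnorm _) p ∈
          (Subgroup.normalizerMonoidHom Rb).ker := h1
      rw [Subgroup.normalizerMonoidHom_ker, Subgroup.mem_subgroupOf, Subgroup.mem_centralizer_iff] at h2
      exact hreg _ h2
    haveI : Group.IsSolvable ↥Rb := isSolvable_comm fun a b => Subtype.ext (hcb _ a.2 _ b.2)
    have h3 := perfect_hom_eq_one hPP ((ρ.comp (Subgroup.inclusion hPS)).codRestrict Rb hin) p₀
    exact congrArg Subtype.val (Equiv.ext_iff.1 (congrArg Subtype.val h3) x₀)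
  -- few moved points
  have hM3 : M.card ≤ 3 := by
    by_contra hlt
    refine hP0 ((Subgroup.eq_bot_iff_forall P).2 fun p hp => ?_)
    let r : Q →* Perm {y : Fin 8 // y ∉ M} :=
      { toFun := fun g => (g : Perm (Fin 8)).subtypePerm fun y => not_congr (hMQ g y)
        map_one' := by ext; rfl
        map_mul' := fun a b => by ext; rfl }
    haveI : Group.IsSolvable (Perm {y : Fin 8 // y ∉ M}) := by
      refine solvable_small (α := {y : Fin 8 // y ∉ M}) (G := Perm {y : Fin 8 // y ∉ M}) ?_ (MonoidHom.id _)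
        Function.injective_id
      rw [Nat.card_eq_fintype_card, Fintype.card_subtype_compl, Fintype.card_fin, Fintype.card_coe]
      omega
    have h := perfect_hom_eq_one hPP (r.comp P.subtype) ⟨p, hp⟩
    refine Subtype.ext (Equiv.ext fun y => ?_)
    by_cases hy : y ∈ M
    · exact hfixM ⟨p, hp⟩ y hy
    · exact congrArg Subtype.val (Equiv.ext_iff.1 h ⟨y, hy⟩)
  obtain ⟨x, hx⟩ : M.Nonempty := by
    by_contra h
    rw [Finset.not_nonempty_iff_eq_empty] at h
    refine hne ((Subgroup.eq_bot_iff_forall R).2 fun r hr => Subtype.ext (Equiv.ext fun y => ?_))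
    by_contra hy
    have := (hMmem y).2 ⟨⟨r, hr⟩, hy⟩
    simp [h] at this
  have hMc : M.card = 3 := by
    have := Finset.card_le_card (horbM x hx)
    rcases horb x hx with h | h | h <;> omega
  let π : Q →* Perm {y : Fin 8 // y ∉ M} :=
    { toFun := fun g => (g : Perm (Fin 8)).subtypePerm fun y => not_congr (hMQ g y)
      map_one' := by ext; rfl
      map_mul' := fun a b => by ext; rfl }
  let ρM : Q →* Perm {y : Fin 8 // y ∈ M} :=
    { toFun := fun g => (g : Perm (Fin 8)).subtypePerm fun y => hMQ g y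
      map_one' := by ext; rfl
      map_mul' := fun a b => by ext; rfl }
  have hRker : R ≤ π.ker := by
    intro g hg
    refine Equiv.ext fun y => Subtype.ext ?_
    show (g : Perm (Fin 8)) y.1 = y.1
    by_contra hy
    exact y.2 ((hMmem _).2 ⟨⟨g, hg⟩, hy⟩)
  have hfixout : ∀ g : ↥π.ker, ∀ y, y ∉ M → ((g : Q) : Perm (Fin 8)) y = y := fun g y hy =>
    congrArg Subtype.val (Equiv.ext_iff.1 g.2 ⟨y, hy⟩)
  have hK : Nat.card π.ker ≤ 3 := by
    let f : ↥π.ker → ↥(alternatingGroup {y : Fin 8 // y ∈ M}) := fun g => ⟨ρM g, by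
      rw [Perm.mem_alternatingGroup]
      have h1 := (Perm.sign_subtypePerm _ (fun y => hMQ (g : Q) y) fun y hy => by_contra fun h =>
        hy (hfixout g y h)).trans (Perm.mem_alternatingGroup.1 (hA (g : Q).2))
      convert h1 using 2
      congr 1
      all_goals first | rfl | exact Subsingleton.elim _ _⟩
    have hf : Function.Injective f := by
      intro a b e
      refine Subtype.ext (Subtype.ext (Equiv.ext fun y => ?_))
      by_cases hy : y ∈ M
      · exact congrArg Subtype.val (Equiv.ext_iff.1 (congrArg Subtype.val e) ⟨y, hy⟩)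
      · rw [hfixout a y hy, hfixout b y hy]
    refine (Nat.card_le_card_of_injective f hf).trans ?_
    haveI : Nontrivial {y : Fin 8 // y ∈ M} := by
      rw [← Fintype.one_lt_card_iff_nontrivial, Fintype.card_coe]; omega
    have h2 := two_mul_nat_card_alternatingGroup (α := {y : Fin 8 // y ∈ M})
    rw [Nat.card_perm, Nat.card_eq_finsetCard, hMc, show Nat.factorial 3 = 6 from rfl] at h2
    omega
  have hR3 : Nat.card R = 3 := by
    have h1 : Nat.card R ≤ Nat.card π.ker := Nat.card_le_card_of_injective _ (Subgroup.inclusion_injective hRker)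
    have h2 : Nat.card R ≠ 1 := fun e => hne (Subgroup.eq_bot_of_card_eq _ e)
    have h3 := Nat.card_pos (α := R)
    obtain ⟨k, hk⟩ := hodd
    omega
  refine ⟨hR3, ?_⟩
  have hker : π.ker = R := (Subgroup.eq_of_le_of_card_ge hRker (hK.trans hR3.ge)).symm
  let e5 : {y : Fin 8 // y ∉ M} ≃ Fin 5 := Fintype.equivFinOfCardEq (by
    rw [Fintype.card_subtype_compl, Fintype.card_fin, Fintype.card_coe, hMc])
  let π' : Q →* Perm (Fin 5) := e5.permCongrHom.toMonoidHom.comp π
  have hker' : π'.ker = R := by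
    rw [← hker]
    ext g
    simp [π', MonoidHom.mem_ker]
  let eQ : Q ⧸ R ≃* π'.range := (QuotientGroup.quotientMulEquivOfEq hker'.symm).trans (QuotientGroup.quotientKerEquivRange π')
  have hnr : ¬ Group.IsSolvable π'.range := by
    intro h
    haveI : Group.IsSolvable R := isSolvable_comm hRc
    refine hns (Group.isSolvable_of_ker_le_range R.subtype π'.rangeRestrict ?_)
    rw [MonoidHom.ker_rangeRestrict, hker', Subgroup.range_subtype]
  rcases perm_degree5 π'.range hnr with ⟨⟨i⟩⟩ | ⟨⟨i⟩⟩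
  · exact Or.inl ⟨eQ.trans i⟩
  · exact Or.inr ⟨eQ.trans i⟩

end Cfsg.Agent.SubA8
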